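import Cfsg.Agent.Techniques.SL2.Nonstable

/-!
# `Qd(p)` is not stable
-/

namespace Cfsg.Agent.Techniques.SL2.QdProps

open Matrix
open scoped MatrixGroups commutatorElement
open Cfsg Cfsg.Agent.Techniques.SL2.Qd

variable (p : ℕ) [hp : Fact p.Prime]

/-- The translations in `Qd(p)`. -/
def trans : Multiplicative (Fin 2 → ZMod p) →* ↥(qd p) where
  toFun x := ⟨aff 1 x.toAdd, aff_mem_qd _ _⟩
  map_one' := Subtype.ext (Subtype.ext (by
    ext i j
    fin_cases i <;> fin_cases j <;> simp [aff]))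
  map_mul' x y := Subtype.ext (by
    show aff 1 (x * y).toAdd = aff 1 x.toAdd * aff 1 y.toAdd
    rw [aff_mul]
    simp)

theorem trans_injective : Function.Injective (trans p) := by
  intro x y h
  have h' : aff 1 x.toAdd = aff 1 y.toAdd := congrArg Subtype.val h
  refine Multiplicative.toAdd.injective (funext fun i => ?_)
  fin_cases i
  · simpa [aff] using congrFun (congrFun (congrArg Subtype.val h') 0) 2
  · simpa [aff] using congrFun (congrFun (congrArg Subtype.val h') 1) 2

/-- The linear part. -/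
def lin : SL(2, ZMod p) →* ↥(qd p) where
  toFun A := ⟨aff A 0, aff_mem_qd _ _⟩
  map_one' := Subtype.ext (Subtype.ext (by
    ext i j
    fin_cases i <;> fin_cases j <;> simp [aff]))
  map_mul' A B := Subtype.ext (by
    show aff (A * B) 0 = aff A 0 * aff B 0
    rw [aff_mul]
    simp)

theorem conj_trans (A : SL(2, ZMod p)) (x : Fin 2 → ZMod p) :
    lin p A * trans p (Multiplicative.ofAdd x) * (lin p A)⁻¹ =
      trans p (Multiplicative.ofAdd (A.1 *ᵥ x)) := by
  rw [mul_inv_eq_iff_eq_mul]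
  apply Subtype.ext
  show aff A 0 * aff 1 x = aff 1 (A.1 *ᵥ x) * aff A 0
  rw [aff_mul, aff_mul]
  simp

theorem exists_eq_mul (g : ↥(qd p)) :
    ∃ A x, g = trans p (Multiplicative.ofAdd x) * lin p A := by
  obtain ⟨A, x, h⟩ := exists_aff_eq g.2
  refine ⟨A, x, Subtype.ext ?_⟩
  show g.1 = aff 1 x * aff A 0
  rw [aff_mul, ← h]
  simp

/-- The translation subgroup. -/
def V : Subgroup ↥(qd p) := (trans p).range

theorem conj_trans_any (g : ↥(qd p)) (x : Fin 2 → ZMod p) :
    ∃ y, g * trans p (Multiplicative.ofAdd x) * g⁻¹ = trans p (Multiplicative.ofAdd y) := by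
  obtain ⟨A, a, rfl⟩ := exists_eq_mul p g
  refine ⟨A.1 *ᵥ x, ?_⟩
  calc trans p (Multiplicative.ofAdd a) * lin p A * trans p (Multiplicative.ofAdd x) *
        (trans p (Multiplicative.ofAdd a) * lin p A)⁻¹
      = trans p (Multiplicative.ofAdd a) * (lin p A * trans p (Multiplicative.ofAdd x) *
          (lin p A)⁻¹) * (trans p (Multiplicative.ofAdd a))⁻¹ := by group
    _ = _ := by
      rw [conj_trans, ← map_inv, ← map_mul, ← map_mul, mul_comm (Multiplicative.ofAdd a),
        mul_inv_cancel_right]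

instance instVNormal : (V p).Normal := by
  refine ⟨?_⟩
  rintro _ ⟨x, rfl⟩ g
  obtain ⟨y, hy⟩ := conj_trans_any p g x.toAdd
  exact ⟨_, hy.symm⟩

theorem isPGroup_V : IsPGroup p (V p) := by
  rintro ⟨_, x, rfl⟩
  refine ⟨1, Subtype.ext ?_⟩
  rw [SubmonoidClass.coe_pow, ← map_pow, pow_one]
  have : x ^ p = 1 := Multiplicative.toAdd.injective (funext fun i => by simp [toAdd_pow])
  rw [this, map_one]
  rfl

theorem V_ne_bot : V p ≠ ⊥ := by
  intro h
  have h1 : trans p (Multiplicative.ofAdd ![1, 0]) ∈ (⊥ : Subgroup ↥(qd p)) := h ▸ ⟨_, rfl⟩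
  rw [Subgroup.mem_bot, ← map_one (trans p)] at h1
  exact one_ne_zero (α := ZMod p) (congrFun (congrArg Multiplicative.toAdd (trans_injective p h1)) 0)

/-- The translations form a minimal normal subgroup. -/
theorem V_minimal (N : Subgroup ↥(qd p)) (hN : N.Normal) (hle : N ≤ V p) : N = ⊥ ∨ N = V p := by
  by_cases hb : N = ⊥
  · exact Or.inl hb
  right
  refine le_antisymm hle ?_
  let S : AddSubgroup (Fin 2 → ZMod p) :=
    { carrier := {x | trans p (Multiplicative.ofAdd x) ∈ N}
      zero_mem' := by simp [one_mem]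
      add_mem' := fun {x y} hx hy => by
        simp only [Set.mem_setOf_eq] at hx hy ⊢
        rw [ofAdd_add, map_mul]; exact mul_mem hx hy
      neg_mem' := fun {x} hx => by
        simp only [Set.mem_setOf_eq] at hx ⊢
        rw [ofAdd_neg, map_inv]; exact inv_mem hx }
  have hS : ∀ (A : SL(2, ZMod p)) x, x ∈ S → A.1 *ᵥ x ∈ S := fun A x hx => by
    show trans p (Multiplicative.ofAdd (A.1 *ᵥ x)) ∈ N
    rw [← conj_trans]; exact hN.conj_mem _ hx _
  have hmul : ∀ (c : ZMod p) x, x ∈ S → c • x ∈ S := fun c x hx => by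
    obtain ⟨n, rfl⟩ : ∃ n : ℕ, c = n := ⟨c.val, (ZMod.natCast_rightInverse c).symm⟩
    rw [Nat.cast_smul_eq_nsmul]; exact S.nsmul_mem hx n
  obtain ⟨⟨v, hv⟩, hv1⟩ := Subgroup.ne_bot_iff_exists_ne_one.1 hb
  obtain ⟨x, rfl⟩ := hle hv
  have hx : x.toAdd ∈ S := hv
  have hx0 : x.toAdd ≠ 0 := fun h => hv1 (Subtype.ext (by
    show trans p x = 1
    rw [show x = 1 from Multiplicative.toAdd.injective h, map_one]))
  set a := x.toAdd 0 with ha
  set b := x.toAdd 1 with hb'
  obtain ⟨c, hc, hc0⟩ : ∃ c : ZMod p, ![c, 0] ∈ S ∧ c ≠ 0 := by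
    by_cases hb0 : b = 0
    · refine ⟨a, ?_, fun h => hx0 (funext fun i => by fin_cases i; exacts [h, hb0])⟩
      convert hx using 1
      funext i; fin_cases i
      · rfl
      · exact hb0.symm
    · refine ⟨b, ?_, hb0⟩
      convert S.sub_mem (hS (Classical.GL2.uniSL 1) _ hx) hx using 1
      funext i
      fin_cases i <;>
        simp [Classical.GL2.coe_uniSL, Matrix.mulVec, dotProduct, Fin.sum_univ_two, hb']
  have h10 : ![1, 0] ∈ S := by
    convert hmul c⁻¹ _ hc using 1
    funext i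
    fin_cases i <;> simp [hc0]
  have h01 : ![0, 1] ∈ S := by
    convert S.sub_mem (hS (Classical.GL2.lowSL 1) _ h10) h10 using 1
    funext i
    fin_cases i <;> simp [Classical.GL2.coe_lowSL, Matrix.mulVec, dotProduct, Fin.sum_univ_two]
  rintro _ ⟨y, rfl⟩
  have : y.toAdd ∈ S := by
    convert S.add_mem (hmul (y.toAdd 0) _ h10) (hmul (y.toAdd 1) _ h01) using 1
    funext i
    fin_cases i <;> simp
  exact this

theorem not_isNormalizerPStable : ¬ IsNormalizerPStable p ↥(qd p) := by
  intro hst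
  set g := lin p (Classical.GL2.uniSL 1) with hg
  have hgn : g ∈ Subgroup.normalizer ((V p : Subgroup ↥(qd p)) : Set ↥(qd p)) := by
    rw [Subgroup.normalizer_eq_top]; exact Subgroup.mem_top _
  have hcomm : ∀ x : Fin 2 → ZMod p, ∀ n : ℤ, g ^ n * trans p (Multiplicative.ofAdd x) * (g ^ n)⁻¹ =
      trans p (Multiplicative.ofAdd ![x 0 + n * x 1, x 1]) := by
    intro x n
    rw [hg, ← map_zpow, conj_trans]
    have e : ∀ n : ℤ, (Classical.GL2.uniSL (1 : ZMod p)) ^ n = Classical.GL2.uniSL (n : ZMod p) := by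
      intro n
      have h := (map_zpow (Classical.GL2.uniHom (ZMod p)) (Multiplicative.ofAdd 1) n).symm
      have h2 : (Multiplicative.ofAdd (1 : ZMod p)) ^ n = Multiplicative.ofAdd (n : ZMod p) := by
        rw [← ofAdd_zsmul, zsmul_one]
      rw [h2] at h
      exact h
    rw [e]
    congr 2
    funext i
    fin_cases i <;> simp [Classical.GL2.coe_uniSL, Matrix.mulVec, dotProduct, Fin.sum_univ_two]
  have hq : ⁅⁅V p, Subgroup.zpowers g⁆, Subgroup.zpowers g⁆ = ⊥ := by
    let D : Subgroup ↥(qd p) :=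
      (trans p).range ⊓ Subgroup.centralizer ((Subgroup.zpowers g : Subgroup _) : Set ↥(qd p))
    rw [Subgroup.commutator_eq_bot_iff_le_centralizer, Subgroup.commutator_le]
    rintro _ ⟨y, rfl⟩ w hw
    obtain ⟨n, rfl⟩ := Subgroup.mem_zpowers_iff.1 hw
    rw [Subgroup.mem_centralizer_iff]
    intro w' hw'
    obtain ⟨m, rfl⟩ := Subgroup.mem_zpowers_iff.1 hw'
    obtain ⟨x, rfl⟩ := Multiplicative.ofAdd.surjective y
    have e : ⁅trans p (Multiplicative.ofAdd x), g ^ n⁆ =
        trans p (Multiplicative.ofAdd ![-((n : ZMod p) * x 1), 0]) := by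
      rw [commutatorElement_def]
      calc trans p (Multiplicative.ofAdd x) * g ^ n * (trans p (Multiplicative.ofAdd x))⁻¹ * (g ^ n)⁻¹
          = trans p (Multiplicative.ofAdd x) *
              (g ^ n * trans p (Multiplicative.ofAdd x) * (g ^ n)⁻¹)⁻¹ := by group
        _ = _ := by
            rw [hcomm, ← map_inv, ← map_mul, ← ofAdd_neg, ← ofAdd_add]
            congr 2
            funext i
            fin_cases i <;> simp
    rw [e, ← mul_inv_eq_iff_eq_mul, hcomm]
    simp
  have hc := KInf.centralizes_of_mem_pCore (isPGroup_V p) (V_ne_bot p) (V_minimal p) hgn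
    (hst (V p) (isPGroup_V p) g hgn hq)
  have h1 := Subgroup.mem_centralizer_iff.1 hc (trans p (Multiplicative.ofAdd ![0, 1])) ⟨_, rfl⟩
  have h2 := hcomm ![0, 1] 1
  rw [zpow_one, ← h1, mul_inv_cancel_right] at h2
  have h3 := congrFun (congrArg Multiplicative.toAdd (trans_injective p h2)) 0
  simp at h3

end Cfsg.Agent.Techniques.SL2.QdProps
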