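import Cfsg.Agent.Techniques.SL2.Nonstable
import Cfsg.Agent.Techniques.KInf.Fusion
import Cfsg.Agent.Techniques.KInf.Stable
import Cfsg.Agent.Lib.PLocal.ZJ
import Cfsg.Agent.Lib.PLocal.MaxAbelian

/-!
# Glauberman's `ZJ`-theorem for `Qd(p)`-free groups, and the fusion it controls
-/

namespace Cfsg.Agent.Techniques.SL2.ZJFusion

open Subgroup Cfsg Cfsg.Agent.Techniques.Functor Cfsg.Agent.Techniques.KInf
open scoped commutatorElement

universe u

variable {p : ℕ} [hp : Fact p.Prime]

theorem involves_of_top {H : Type*} [Group H] {G : Type*} [Group G] {N : Subgroup G}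
    (h : Involves H N) : Involves H G :=
  Qd.involves_trans (MonoidHom.id _) Function.surjective_id h

theorem isPStableOn_of_stable {G : Type*} [Group G] [Finite G] (hst : IsNormalizerPStable p G)
    (V : Subgroup G) [V.Normal] (hV : IsPGroup p V) : IsPStableOn p V := by
  intro a ha
  set C := centralizer (V : Set G) with hC
  have hN : ∀ x : G, x ∈ normalizer (V : Set G) := fun x => by
    rw [normalizer_eq_top]; exact mem_top x
  have hmem := hst V hV a (hN a) ha
  let f : ↥(normalizer (V : Set G)) ⧸ C.subgroupOf (normalizer (V : Set G)) →* G ⧸ C :=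
    QuotientGroup.map _ _ (normalizer (V : Set G)).subtype (fun x hx => hx)
  have hf : Function.Surjective f := by
    intro y
    obtain ⟨x, rfl⟩ := QuotientGroup.mk'_surjective C y
    exact ⟨QuotientGroup.mk' _ ⟨x, hN x⟩, rfl⟩
  exact PLocal.Cores.map_pCore_le hf ⟨_, hmem, rfl⟩

/-- A `Qd(p)`-free group is stable. -/
theorem stable_of_free {G : Type*} [Group G] [Finite G] (hp2 : p ≠ 2)
    (h : ¬ Involves ↥(qd p) G) : IsNormalizerPStable p G := by
  by_contra hns
  obtain ⟨P, -, -, hQ, -⟩ := Nonstable.involves_of_not_stable hp2 hns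
  exact h (involves_of_top hQ)

theorem zj_normal_of_free {G : Type*} [Group G] [Finite G] (hp2 : p ≠ 2)
    (h : ¬ Involves ↥(qd p) G) (hc : centralizer (pCore p G : Set G) ≤ pCore p G) (S : Sylow p G) :
    (centerThompsonAOf (S : Subgroup G)).Normal := by
  rw [PLocal.MaxAbelian.centerThompsonA_eq]
  exact PLocal.ZJ.core_normal hp2 hc 0
    (fun V _ hV => isPStableOn_of_stable (stable_of_free hp2 h) V hV) S

/-- The `ZJ` functor. -/
def zj : ∀ (Q : Type u) [Group Q], Subgroup Q := fun Q _ =>
  Cfsg.Agent.PLocal.MaxAbelian.core 0 (⊤ : Subgroup Q)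

omit hp in
theorem induced_zj {G : Type u} [Group G] [Finite G] (U : Subgroup G) :
    inducedFunctor (G := G) zj.{u} U = centerThompsonAOf U := by
  rw [PLocal.MaxAbelian.centerThompsonA_eq]
  show (PLocal.MaxAbelian.core 0 (⊤ : Subgroup U)).map U.subtype = PLocal.MaxAbelian.core 0 U
  have h := PLocal.MaxAbelian.core_map 0 U.subtype_injective (⊤ : Subgroup U)
  rw [← MonoidHom.range_eq_map, Subgroup.range_subtype] at h
  exact h.symm

theorem center_le_core {Q : Type u} [Group Q] [Finite Q] :
    center Q ≤ PLocal.MaxAbelian.core 0 (⊤ : Subgroup Q) := by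
  refine le_sInf fun A hA z hz => ?_
  have hA' : IsMulCommutative A := PLocal.MaxAbelian.good_zero_iff.mp hA.2.1
  have hg : PLocal.MaxAbelian.Good 0 (A ⊔ center Q) := by
    refine ⟨fun a ha b hb => ?_, fun a _ => pow_zero a⟩
    have h1 : A ⊔ center Q ≤ centralizer (A : Set Q) :=
      sup_le (le_centralizer_iff_isMulCommutative.mpr hA') (center_le_centralizer _)
    have h2 : A ⊔ center Q ≤ centralizer ((A ⊔ center Q : Subgroup Q) : Set Q) :=
      sup_le (le_centralizer_iff.mp h1) (center_le_centralizer _)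
    exact (h2 ha b hb).symm
  rw [eq_of_le_of_card_ge (le_sup_left : A ≤ A ⊔ center Q) (hA.2.2 _ le_top hg)]
  exact mem_sup_right hz

theorem isCharPFunctor_zj : IsCharPFunctor.{u} p zj.{u} := by
  refine ⟨?_, ?_⟩
  · intro Q _ _ hQ hnt h
    exact (Subgroup.nontrivial_iff_ne_bot _).mp hQ.center_nontrivial
      (le_bot_iff.mp (h ▸ center_le_core))
  · intro Q R _ _ _ _ φ
    show (PLocal.MaxAbelian.core 0 (⊤ : Subgroup Q)).map φ.toMonoidHom = _
    rw [← PLocal.MaxAbelian.core_map 0 (f := φ.toMonoidHom) φ.injective,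
      Subgroup.map_top_of_surjective _ φ.surjective]
    rfl

/-- In a `Qd(p)`-free group the family of the functor `ZJ` alone controls strong fusion. -/
theorem fc_of_free {G : Type u} [Group G] [Finite G] (hp2 : p ≠ 2)
    (h : ¬ Involves ↥(qd p) G) : FC p {zj.{u}} G := by
  have h𝓦 : ∀ V ∈ ({zj.{u}} : Set (∀ (Q : Type u) [Group Q], Subgroup Q)),
      IsCharPFunctor.{u} p V := by
    rintro V rfl
    exact isCharPFunctor_zj
  refine fc_of_constrained (G := G) h𝓦 (fun H _ _ hsec hc T => ?_) G (IsSec.refl G)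
  have hfree : ¬ Involves ↥(qd p) H := fun hQ => by
    obtain ⟨K, R, hR, ⟨e⟩⟩ := hsec.exists_quotient
    exact h (Qd.involves_quotient (K := K) (R := R) (Qd.involves_trans (L := ⊤)
      (e.toMonoidHom.comp (⊤ : Subgroup (↥K ⧸ R.subgroupOf K)).subtype)
      (fun y => ⟨⟨e.symm y, mem_top _⟩, e.apply_symm_apply y⟩) hQ))
  have hn : (inducedFunctor (G := H) zj.{u} (T : Subgroup H)).Normal := by
    rw [induced_zj]; exact zj_normal_of_free hp2 hfree hc T
  intro A g _ hA hc'
  refine Reach.single ?_ hc'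
  rw [induced, Set.image_singleton, steps_singleton, SetLike.mem_coe, mem_inf,
    normalizer_eq_top_iff.mpr hn]
  exact ⟨mem_top g, mem_top g⟩

/-- In a `Qd(p)`-free group the functor `ZJ` controls strong fusion. -/
theorem controls_of_free {G : Type u} [Group G] [Finite G] (hp2 : p ≠ 2)
    (h : ¬ Involves ↥(qd p) G) (S : Sylow p G) :
    ControlsStrongFusion p (centerThompsonAOf (S : Subgroup G)) := by
  rw [← induced_zj]
  exact controlsStrongFusion_of_fc (fc_of_free hp2 h) S isCharPFunctor_zj

end Cfsg.Agent.Techniques.SL2.ZJFusion
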