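import Cfsg.Agent.Techniques.SL2.Main
import Cfsg.Agent.Lib.PLocal.Quadratic

/-!
# Bad quadratic pairs give `SL₂(p)` sections
-/

namespace Cfsg.Agent.Techniques.SL2.Pairs

open Subgroup Cfsg
open Cfsg.Agent.PLocal.Quadratic
open scoped MatrixGroups

variable {p : ℕ} [hp : Fact p.Prime]

theorem one_lt_card_sylow {S : Type*} [Group S] [Finite S] {u v : S} (hu : u ^ p = 1)
    (hv : v ^ p = 1) (h : ¬ IsPGroup p (closure ({u, v} : Set S))) :
    1 < Nat.card (Sylow p (closure ({u, v} : Set S))) := by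
  by_contra hc
  have : Subsingleton (Sylow p (closure ({u, v} : Set S))) :=
    Finite.card_le_one_iff_subsingleton.1 (not_lt.1 hc)
  let P : Sylow p (closure ({u, v} : Set S)) := default
  have hmem : ∀ w : closure ({u, v} : Set S), w ^ p = 1 → w ∈ P := by
    intro w hw
    have hq : IsPGroup p (zpowers w) := by
      obtain ⟨m, -, hm⟩ := (Nat.dvd_prime_pow hp.out).1
        (orderOf_dvd_of_pow_eq_one (show w ^ p ^ 1 = 1 by rw [pow_one, hw]))
      exact IsPGroup.of_card (by rw [Nat.card_zpowers, hm])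
    obtain ⟨Q, hQ⟩ := hq.exists_le_sylow
    exact Subsingleton.elim Q P ▸ hQ (mem_zpowers w)
  refine h (fun w => ?_)
  have htop : (⊤ : Subgroup (closure ({u, v} : Set S))) ≤ P := by
    rw [← closure_closure_coe_preimage, closure_le]
    rintro ⟨w, hw⟩ (hw' | hw')
    · exact hmem _ (Subtype.ext (by simp only at hw'; rw [SubmonoidClass.coe_pow]; simp [hw', hu]))
    · exact hmem _ (Subtype.ext (by
        simp only [Set.mem_singleton_iff] at hw'; rw [SubmonoidClass.coe_pow]; simp [hw', hv]))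
  obtain ⟨k, hk⟩ := P.isPGroup' ⟨w, htop (mem_top w)⟩
  exact ⟨k, congrArg Subtype.val hk⟩

variable {G : Type*} [Group G] [Finite G] {V : Subgroup G}

/-- A bad pair of quadratic elements generates a group with an `SL₂(p)` section. -/
theorem exists_section (hp2 : p ≠ 2) (hV : IsElementaryAbelian p V) {a b : G}
    (haN : a ∈ normalizer (V : Set G)) (hbN : b ∈ normalizer (V : Set G)) (ha : Quad V a)
    (hb : Quad V b) (hnp : BadPair p V a b) :
    ∃ (K L : Subgroup G) (_ : (L.subgroupOf K).Normal), K ≤ closure ({a, b} : Set G) ∧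
      (centralizer (V : Set G)).subgroupOf K ≤ L.subgroupOf K ∧
      Nonempty ((K ⧸ L.subgroupOf K) ≃* SL(2, ZMod p)) := by
  obtain ⟨F, _, _, _, φ, h1, h2, h3, hC⟩ := exists_pair_hom hV haN hbN ha hb hnp
  obtain ⟨f, hf, -, hr⟩ := exists_surj φ
  have hr' := one_lt_card_sylow (p := p) h2 h3 (by rw [hr]; exact h1)
  obtain ⟨M, hM, ⟨eM⟩⟩ := Main.exists_le_equiv p hp2 _ hr'
  rw [hr] at hM
  set K := (M.comap φ).map (closure ({a, b} : Set G)).subtype with hK
  set L := φ.ker.map (closure ({a, b} : Set G)).subtype with hL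
  have hKH : K ≤ closure ({a, b} : Set G) := map_subtype_le _
  let g : K →* SL(2, F) := φ.comp (inclusion hKH)
  have hker : g.ker = L.subgroupOf K := by
    ext x
    rw [MonoidHom.mem_ker, mem_subgroupOf]
    constructor
    · intro hx
      exact ⟨inclusion hKH x, hx, rfl⟩
    · rintro ⟨y, hy, hyx⟩
      show φ (inclusion hKH x) = 1
      rw [show inclusion hKH x = y from Subtype.ext hyx.symm]
      exact hy
  have hrange : g.range = M := by
    apply le_antisymm
    · rintro _ ⟨⟨x, y, hy, rfl⟩, rfl⟩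
      exact hy
    · intro m hm
      obtain ⟨y, rfl⟩ := hM hm
      exact ⟨⟨y, y, SetLike.mem_coe.mpr (mem_comap.mpr hm), rfl⟩, rfl⟩
  have hLn : (L.subgroupOf K).Normal := hker ▸ MonoidHom.normal_ker g
  refine ⟨K, L, hLn, hKH, ?_, ⟨((QuotientGroup.quotientMulEquivOfEq hker.symm).trans
    ((QuotientGroup.quotientKerEquivRange g).trans (MulEquiv.subgroupCongr hrange))).trans eM⟩⟩
  rw [← hker]
  intro x hx
  exact hC (show inclusion hKH x ∈ _ from hx)

end Cfsg.Agent.Techniques.SL2.Pairs
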