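import Cfsg.Agent.Techniques.SL2.Main

/-!
# Two quadratic endomorphisms: an invariant plane over an extension field
-/

namespace Cfsg.Agent.Techniques.SL2.Rep

open Polynomial
open scoped MatrixGroups

variable {K W : Type*} [Field K] [AddCommGroup W] [Module K W]

/-- The image of the augmentation step of two endomorphisms. -/
def step (α β : Module.End K W) (S : Submodule K W) : Submodule K W := S.map α ⊔ S.map β

theorem step_mono (α β : Module.End K W) {S T : Submodule K W} (h : S ≤ T) :
    step α β S ≤ step α β T :=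
  sup_le_sup (Submodule.map_mono h) (Submodule.map_mono h)

variable {α β : Module.End K W}

theorem pow_z (hα : α * α = 0) (hβ : β * β = 0) (m : ℕ) :
    (α * β + β * α) ^ (m + 1) = (α * β) ^ (m + 1) + (β * α) ^ (m + 1) := by
  induction m with
  | zero => simp
  | succ m ih =>
    have e1 : (α * β) ^ (m + 1) * (β * α) = 0 := by
      rw [pow_succ, mul_assoc, mul_assoc, ← mul_assoc β β, hβ, zero_mul, mul_zero, mul_zero]
    have e2 : (β * α) ^ (m + 1) * (α * β) = 0 := by
      rw [pow_succ, mul_assoc, mul_assoc, ← mul_assoc α α, hα, zero_mul, mul_zero, mul_zero]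
    rw [pow_succ, ih, add_mul, mul_add, mul_add, e1, e2, add_zero, zero_add, ← pow_succ, ← pow_succ]

theorem mul_pow_comm (a b : Module.End K W) (m : ℕ) : (a * b) ^ m * a = a * (b * a) ^ m := by
  induction m with
  | zero => simp
  | succ m ih => rw [pow_succ', pow_succ', mul_assoc, ih]; simp [mul_assoc]

theorem iterate_step_eq_bot (hα : α * α = 0) (hβ : β * β = 0) {m : ℕ}
    (hm : (α * β + β * α) ^ (m + 1) = 0) : (step α β)^[2 * (m + 2)] ⊤ = ⊥ := by
  have key : ∀ j : ℕ, (step α β)^[2 * (j + 1)] ⊤ ≤
      LinearMap.range ((α * β) ^ (j + 1)) ⊔ LinearMap.range ((β * α) ^ (j + 1)) := by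
    intro j
    induction j with
    | zero =>
      simp only [Nat.zero_add, mul_one, Function.iterate_succ, Function.iterate_zero,
        Function.id_comp, pow_one]
      show step α β (step α β ⊤) ≤ _
      simp only [step, Submodule.map_sup, Submodule.map_top, ← LinearMap.range_comp,
        ← Module.End.mul_eq_comp, hα, hβ]
      simp
    | succ j ih =>
      rw [show 2 * (j + 1 + 1) = (2 * (j + 1)) + 1 + 1 by ring, Function.iterate_succ_apply',
        Function.iterate_succ_apply']
      refine (step_mono α β (step_mono α β ih)).trans ?_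
      simp only [step, Submodule.map_sup]
      have hz1 : α * (α * (α * β) ^ (j + 1)) = 0 := by rw [← mul_assoc, hα, zero_mul]
      have hz2 : α * (α * (β * α) ^ (j + 1)) = 0 := by rw [← mul_assoc, hα, zero_mul]
      have hz3 : β * (β * (α * β) ^ (j + 1)) = 0 := by rw [← mul_assoc, hβ, zero_mul]
      have hz4 : β * (β * (β * α) ^ (j + 1)) = 0 := by rw [← mul_assoc, hβ, zero_mul]
      have hz5 : α * (β * (β * α) ^ (j + 1)) = 0 := by
        rw [pow_succ', ← mul_assoc β, ← mul_assoc β, hβ, zero_mul, zero_mul, mul_zero]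
      have hz6 : β * (α * (α * β) ^ (j + 1)) = 0 := by
        rw [pow_succ', ← mul_assoc α, ← mul_assoc α, hα, zero_mul, zero_mul, mul_zero]
      have e1 : α * (β * (α * β) ^ (j + 1)) = (α * β) ^ (j + 1 + 1) := by
        rw [← mul_assoc, ← pow_succ']
      have e2 : β * (α * (β * α) ^ (j + 1)) = (β * α) ^ (j + 1 + 1) := by
        rw [← mul_assoc, ← pow_succ']
      rw [← LinearMap.range_comp, ← LinearMap.range_comp, ← LinearMap.range_comp,
        ← LinearMap.range_comp]
      simp only [← Module.End.mul_eq_comp, ← LinearMap.range_comp]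
      rw [hz1, hz2, hz3, hz4, hz5, hz6, e1, e2]
      simp
  refine le_bot_iff.1 ((key (m + 1)).trans ?_)
  have e1 : (α * β) ^ (m + 1 + 1) = 0 := by
    have h1 : α * (α * β + β * α) ^ (m + 1) * β = α * (β * α) ^ (m + 1) * β := by
      rw [pow_z hα hβ, mul_add, pow_succ' (α * β), ← mul_assoc α, ← mul_assoc α, hα, zero_mul,
        zero_mul, zero_add]
    rw [pow_succ, ← mul_assoc, mul_pow_comm, ← h1, hm, mul_zero, zero_mul]
  have e2 : (β * α) ^ (m + 1 + 1) = 0 := by
    have h1 : β * (α * β + β * α) ^ (m + 1) * α = β * (α * β) ^ (m + 1) * α := by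
      rw [pow_z hα hβ, mul_add, pow_succ' (β * α), ← mul_assoc β (β * α), ← mul_assoc β β, hβ,
        zero_mul, zero_mul, add_zero]
    rw [pow_succ, ← mul_assoc, mul_pow_comm, ← h1, hm, mul_zero, zero_mul]
  rw [e1, e2]
  simp

variable (p : ℕ) [Fact p.Prime] [CharP K p] {H : Type*} [Group H] (L : H →* Module.End K W)
variable {a b : H}

theorem inv_eq {a : H} (h : (L a - 1) * (L a - 1) = 0) : L a⁻¹ = 1 - (L a - 1) := by
  have h1 : L a * (1 - (L a - 1)) = 1 := by
    calc L a * (1 - (L a - 1)) = 1 - (L a - 1) * (L a - 1) := by noncomm_ring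
      _ = 1 := by rw [h, sub_zero]
  calc L a⁻¹ = L a⁻¹ * (L a * (1 - (L a - 1))) := by rw [h1, mul_one]
    _ = _ := by rw [← mul_assoc, ← map_mul, inv_mul_cancel, map_one, one_mul]

/-- If `αβ + βα` is nilpotent then the group acts as a `p`-group. -/
theorem pow_eq_one_of_nilpotent (hgen : Subgroup.closure ({a, b} : Set H) = ⊤)
    (hα : (L a - 1) * (L a - 1) = 0) (hβ : (L b - 1) * (L b - 1) = 0)
    (hn : IsNilpotent ((L a - 1) * (L b - 1) + (L b - 1) * (L a - 1))) (h : H) :
    ∃ k : ℕ, L (h ^ p ^ k) = 1 := by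
  obtain ⟨m, hm⟩ := hn
  have hm' : ((L a - 1) * (L b - 1) + (L b - 1) * (L a - 1)) ^ (m + 1) = 0 := by
    rw [pow_succ, hm, zero_mul]
  set T : ℕ → Submodule K W := fun k => (step (L a - 1) (L b - 1))^[k] ⊤ with hT
  have hmem : ∀ k, ∀ x ∈ T k, (L a - 1) x ∈ T (k + 1) ∧ (L b - 1) x ∈ T (k + 1) := by
    intro k x hx
    simp only [hT, Function.iterate_succ_apply']
    exact ⟨Submodule.mem_sup_left (Submodule.mem_map_of_mem hx),
      Submodule.mem_sup_right (Submodule.mem_map_of_mem hx)⟩
  have hdec : ∀ k, T (k + 1) ≤ T k := by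
    intro k
    induction k with
    | zero => exact le_top
    | succ k ih =>
      simp only [hT, Function.iterate_succ_apply'] at ih ⊢
      exact step_mono _ _ ih
  let Good : H → Prop := fun g => ∀ k, ∀ x ∈ T k, L g x - x ∈ T (k + 1)
  have hpres : ∀ g, Good g → ∀ k, ∀ x ∈ T k, L g x ∈ T k := fun g hg k x hx => by
    have h2 := add_mem (hdec k (hg k x hx)) hx
    rwa [sub_add_cancel] at h2
  have hmul : ∀ g g', Good g → Good g' → Good (g * g') := fun g g' hg hg' k x hx => by
    have e : L (g * g') x - x = L g (L g' x - x) + (L g x - x) := by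
      rw [map_mul, Module.End.mul_apply, map_sub]; abel
    rw [e]
    exact add_mem (hpres g hg _ _ (hg' k x hx)) (hg k x hx)
  have hgood : ∀ g : H, Good g := by
    intro g
    have hg : g ∈ Subgroup.closure ({a, b} : Set H) := hgen ▸ Subgroup.mem_top g
    induction hg using Subgroup.closure_induction_left with
    | one => intro k x _; simp
    | mul_left y hy z _ ih =>
      refine hmul _ _ ?_ ih
      intro k x hx
      rcases hy with rfl | rfl
      · exact (hmem k x hx).1
      · exact (hmem k x hx).2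
    | inv_mul_cancel y hy z _ ih =>
      refine hmul _ _ ?_ ih
      intro k x hx
      rcases hy with rfl | rfl
      · rw [inv_eq L hα, LinearMap.sub_apply, Module.End.one_apply, sub_sub_cancel_left]
        exact neg_mem (hmem k x hx).1
      · rw [inv_eq L hβ, LinearMap.sub_apply, Module.End.one_apply, sub_sub_cancel_left]
        exact neg_mem (hmem k x hx).2
  have hbot : T (2 * (m + 2)) = ⊥ := iterate_step_eq_bot hα hβ hm'
  have hpow : ∀ n x, ((L h - 1) ^ n) x ∈ T n := by
    intro n
    induction n with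
    | zero => intro x; exact Submodule.mem_top
    | succ n ih =>
      intro x
      rw [pow_succ', Module.End.mul_apply, LinearMap.sub_apply, Module.End.one_apply]
      exact hgood h n _ (ih x)
  have hz : (L h - 1) ^ (2 * (m + 2)) = 0 := LinearMap.ext fun x => by
    have := hpow (2 * (m + 2)) x
    rwa [hbot, Submodule.mem_bot] at this
  refine ⟨2 * (m + 2), ?_⟩
  rcases subsingleton_or_nontrivial W with hW | hW
  · exact LinearMap.ext fun x => Subsingleton.elim _ _
  have : CharP (Module.End K W) p :=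
    charP_of_injective_algebraMap (algebraMap K (Module.End K W)).injective p
  have h2 : (L h - 1) ^ p ^ (2 * (m + 2)) = 0 :=
    pow_eq_zero_of_le (Nat.lt_pow_self (Fact.out : p.Prime).one_lt).le hz
  rw [sub_pow_char_pow_of_commute _ _ (Commute.one_right _), one_pow, sub_eq_zero] at h2
  rw [map_pow, h2]

/-- An invariant plane over a finite extension field. -/
theorem exists_plane {K : Type} {W : Type*} [Field K] [Fintype K] [AddCommGroup W] [Module K W]
    [FiniteDimensional K W] [CharP K p] {H : Type*} [Group H] (L : H →* Module.End K W) {a b : H}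
    (hgen : Subgroup.closure ({a, b} : Set H) = ⊤)
    (hα : (L a - 1) * (L a - 1) = 0) (hβ : (L b - 1) * (L b - 1) = 0)
    (hn : ¬ IsNilpotent ((L a - 1) * (L b - 1) + (L b - 1) * (L a - 1))) :
    ∃ (F : Type) (_ : Field F) (_ : Fintype F) (_ : CharP F p) (z : F) (ρ : H →* SL(2, F))
      (ι : (Fin 2 → F) →+ W), z ≠ 0 ∧ Function.Injective ι ∧
        ρ a = Classical.GL2.uniSL z ∧ ρ b = Classical.GL2.lowSL 1 ∧
        ∀ h x, L h (ι x) = ι ((ρ h : Matrix (Fin 2) (Fin 2) F).mulVec x) := by
  classical
  set A := L a - 1 with hA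
  set B := L b - 1 with hB
  set z := A * B + B * A with hz
  have hAz : Commute A z := by
    rw [Commute, SemiconjBy, hz, mul_add, add_mul, ← mul_assoc A A, hα, zero_mul, zero_add,
      mul_assoc B A A, hα, mul_zero, add_zero, mul_assoc A B A]
  -- an irreducible factor of the minimal polynomial, prime to `X`
  have hμ0 : minpoly K z ≠ 0 := minpoly.ne_zero (Algebra.IsIntegral.isIntegral z)
  obtain ⟨q, hq, hXq⟩ := exists_eq_pow_rootMultiplicity_mul_and_not_dvd (minpoly K z) hμ0 0
  rw [C_0, sub_zero] at hq hXq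
  have hqu : ¬ IsUnit q := by
    intro hu
    refine hn ⟨(minpoly K z).rootMultiplicity 0, ?_⟩
    have h0 : aeval z (minpoly K z) = 0 := minpoly.aeval K z
    rw [hq, map_mul, map_pow, aeval_X] at h0
    exact (IsUnit.mul_left_eq_zero (hu.map (aeval z))).1 h0
  have hq0 : q ≠ 0 := fun h => hμ0 (by rw [hq, h, mul_zero])
  obtain ⟨g₀, hg₀i, hg₀q⟩ := WfDvdMonoid.exists_irreducible_factor hqu hq0
  set g := normalize g₀ with hg
  have hgi : Irreducible g := (associated_normalize g₀).irreducible hg₀i
  have hgq : g ∣ q := normalize_dvd_iff.2 hg₀q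
  have hgm : g.Monic := monic_normalize hg₀i.ne_zero
  have : Fact (Irreducible g) := ⟨hgi⟩
  have hgX : ¬ g ∣ (X : K[X]) := by
    intro hd
    exact hXq ((hgi.associated_of_dvd irreducible_X hd).symm.dvd.trans hgq)
  obtain ⟨v₀, hv₀, hv₀g⟩ : ∃ v : W, v ≠ 0 ∧ aeval z g v = 0 := by
    by_contra hcon
    push Not at hcon
    have hinj : Function.Injective (aeval z g) :=
      (injective_iff_map_eq_zero _).2 fun v hv => by
        by_contra hne
        exact hcon v hne hv
    obtain ⟨r, hr⟩ := hgq.trans (Dvd.intro_left _ hq.symm)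
    have hr0 : aeval z r = 0 := LinearMap.ext fun v => hinj (by
      have h0 := LinearMap.congr_fun (minpoly.aeval K z) v
      rw [hr, map_mul, Module.End.mul_apply, LinearMap.zero_apply] at h0
      rw [LinearMap.zero_apply, map_zero]
      exact h0)
    have hr1 : r ≠ 0 := fun h => hμ0 (by rw [hr, h, mul_zero])
    have := minpoly.min K z (monic_normalize hr1) (by
      obtain ⟨c, hc⟩ := (associated_normalize r)
      rw [← hc, map_mul, hr0, zero_mul])
    rw [degree_normalize, hr, degree_mul, degree_eq_natDegree hgi.ne_zero,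
      degree_eq_natDegree hr1] at this
    have h1 := hgi.natDegree_pos
    norm_cast at this
    omega
  -- a vector fixed by `A`
  have hAg : Commute A (aeval z g) :=
    Algebra.commute_of_mem_adjoin_singleton_of_commute (R := K) (aeval_mem_adjoin_singleton K z) hAz
  obtain ⟨v, hv, hvA, hvg⟩ : ∃ v : W, v ≠ 0 ∧ A v = 0 ∧ aeval z g v = 0 := by
    by_cases h : A v₀ = 0
    · exact ⟨v₀, hv₀, h, hv₀g⟩
    · refine ⟨A v₀, h, by rw [← Module.End.mul_apply, hα, LinearMap.zero_apply], ?_⟩
      rw [← Module.End.mul_apply, ← hAg.eq, Module.End.mul_apply, hv₀g, map_zero]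
  -- the field
  let ev : AdjoinRoot g →+ W :=
    { toFun := fun x => aeval z (AdjoinRoot.modByMonicHom hgm x) v
      map_zero' := by simp
      map_add' := fun x y => by simp }
  have hev : ∀ f : K[X], ev (AdjoinRoot.mk g f) = aeval z f v := by
    intro f
    show aeval z (AdjoinRoot.modByMonicHom hgm (AdjoinRoot.mk g f)) v = aeval z f v
    rw [AdjoinRoot.modByMonicHom_mk]
    conv_rhs => rw [← modByMonic_add_div f g]
    rw [map_add, mul_comm g, map_mul, LinearMap.add_apply, Module.End.mul_apply, hvg, map_zero,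
      add_zero]
  have hevinj : ∀ x, ev x = 0 → x = 0 := by
    intro x hx
    obtain ⟨f, rfl⟩ := AdjoinRoot.mk_surjective x
    by_contra hne
    have hcop : IsCoprime g f :=
      hgi.coprime_iff_not_dvd.2 fun hd => hne (AdjoinRoot.mk_eq_zero.2 hd)
    obtain ⟨c, d, hcd⟩ := hcop
    refine hv ?_
    have h1 := congrArg (fun f => aeval z f v) hcd
    simp only [map_add, map_mul, LinearMap.add_apply, Module.End.mul_apply, map_one,
      Module.End.one_apply] at h1
    rw [hvg, ← hev f, hx, map_zero, map_zero, add_zero] at h1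
    exact h1.symm
  set r := AdjoinRoot.root g with hr
  have hr0 : r ≠ 0 := fun h => hgX (AdjoinRoot.mk_eq_zero.1 h)
  have hA_ev : ∀ x, A (ev x) = 0 := by
    intro x
    obtain ⟨f, rfl⟩ := AdjoinRoot.mk_surjective x
    rw [hev, ← Module.End.mul_apply,
      (Algebra.commute_of_mem_adjoin_singleton_of_commute (R := K)
        (aeval_mem_adjoin_singleton K z) hAz).eq, Module.End.mul_apply, hvA, map_zero]
  have hAB : ∀ x, A (B (ev x)) = ev (r * x) := by
    intro x
    obtain ⟨f, rfl⟩ := AdjoinRoot.mk_surjective x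
    have : r * AdjoinRoot.mk g f = AdjoinRoot.mk g (X * f) := by
      rw [map_mul, AdjoinRoot.mk_X]
    rw [this, hev (X * f), map_mul, aeval_X, Module.End.mul_apply, ← hev f, hz,
      LinearMap.add_apply, Module.End.mul_apply, Module.End.mul_apply, hA_ev, map_zero, add_zero]
  have hBB : ∀ w, B (B w) = 0 := fun w => by
    rw [← Module.End.mul_apply, hβ, LinearMap.zero_apply]
  let ι : (Fin 2 → AdjoinRoot g) →+ W :=
    { toFun := fun x => ev (x 0) + B (ev (x 1))
      map_zero' := by simp
      map_add' := fun x y => by simp only [Pi.add_apply, map_add]; abel }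
  have hι : ∀ x, ι x = ev (x 0) + B (ev (x 1)) := fun x => rfl
  have hιinj : Function.Injective ι := by
    refine (injective_iff_map_eq_zero ι).2 fun x hx => ?_
    rw [hι] at hx
    have h1 := congrArg A hx
    rw [map_add, hA_ev, hAB, zero_add, map_zero] at h1
    have hx1 : x 1 = 0 := (mul_eq_zero.1 (hevinj _ h1)).resolve_left hr0
    rw [hx1, map_zero, map_zero, add_zero] at hx
    funext i
    fin_cases i
    · exact hevinj _ hx
    · exact hx1
  have hLa : ∀ w, L a w = w + A w := fun w => by
    rw [hA, LinearMap.sub_apply, Module.End.one_apply, add_sub_cancel]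
  have hLb : ∀ w, L b w = w + B w := fun w => by
    rw [hB, LinearMap.sub_apply, Module.End.one_apply, add_sub_cancel]
  have ha : ∀ x, L a (ι x) =
      ι ((Classical.GL2.uniSL r : Matrix (Fin 2) (Fin 2) (AdjoinRoot g)).mulVec x) := by
    intro x
    rw [hLa, hι, hι, map_add A, hA_ev, hAB]
    simp [Classical.GL2.coe_uniSL, Matrix.mulVec, dotProduct, Fin.sum_univ_two, map_add]
    abel
  have hb : ∀ x, L b (ι x) =
      ι (((Classical.GL2.lowSL (1 : AdjoinRoot g) : SL(2, AdjoinRoot g)) :
        Matrix (Fin 2) (Fin 2) (AdjoinRoot g)).mulVec x) := by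
    intro x
    rw [hLb, hι, hι, map_add B, hBB]
    simp [Classical.GL2.coe_lowSL, Matrix.mulVec, dotProduct, Fin.sum_univ_two, map_add]
    abel
  have hex : ∀ h : H, ∃ M : SL(2, AdjoinRoot g), ∀ x,
      L h (ι x) = ι ((M : Matrix (Fin 2) (Fin 2) (AdjoinRoot g)).mulVec x) := by
    intro h
    have hh : h ∈ Subgroup.closure ({a, b} : Set H) := hgen ▸ Subgroup.mem_top h
    induction hh using Subgroup.closure_induction with
    | mem y hy =>
      rcases hy with rfl | rfl
      · exact ⟨_, ha⟩
      · exact ⟨_, hb⟩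
    | one => exact ⟨1, fun x => by simp⟩
    | mul y y' _ _ h1 h2 =>
      obtain ⟨M, hM⟩ := h1
      obtain ⟨N, hN⟩ := h2
      exact ⟨M * N, fun x => by
        rw [map_mul, Module.End.mul_apply, hN, hM, Matrix.SpecialLinearGroup.coe_mul,
          Matrix.mulVec_mulVec]⟩
    | inv y _ h1 =>
      obtain ⟨M, hM⟩ := h1
      refine ⟨M⁻¹, fun x => ?_⟩
      conv_lhs => rw [show x = (M : Matrix (Fin 2) (Fin 2) (AdjoinRoot g)).mulVec
        (((M⁻¹ : SL(2, AdjoinRoot g)) : Matrix (Fin 2) (Fin 2) (AdjoinRoot g)).mulVec x) by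
          rw [Matrix.mulVec_mulVec, ← Matrix.SpecialLinearGroup.coe_mul, mul_inv_cancel,
            Matrix.SpecialLinearGroup.coe_one, Matrix.one_mulVec]]
      rw [← hM, ← Module.End.mul_apply, ← map_mul, inv_mul_cancel, map_one, Module.End.one_apply]
  choose M hM using hex
  have huniq : ∀ (N N' : SL(2, AdjoinRoot g)),
      (∀ x, ι ((N : Matrix (Fin 2) (Fin 2) (AdjoinRoot g)).mulVec x) =
        ι ((N' : Matrix (Fin 2) (Fin 2) (AdjoinRoot g)).mulVec x)) → N = N' := fun N N' h =>
    Classical.GL2.sl_ext (Matrix.ext_iff_mulVec.2 fun x => hιinj (h x))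
  let ρ : H →* SL(2, AdjoinRoot g) :=
    { toFun := M
      map_one' := huniq _ _ fun x => by rw [← hM]; simp
      map_mul' := fun y y' => huniq _ _ fun x => by
        rw [← hM, map_mul, Module.End.mul_apply, hM, hM, Matrix.SpecialLinearGroup.coe_mul,
          Matrix.mulVec_mulVec] }
  have : Module.Finite K (AdjoinRoot g) := (AdjoinRoot.powerBasis hgi.ne_zero).finite
  have : Finite (AdjoinRoot g) := Module.finite_of_finite K
  letI : Fintype (AdjoinRoot g) := Fintype.ofFinite _
  exact ⟨AdjoinRoot g, inferInstance, inferInstance,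
    charP_of_injective_algebraMap (algebraMap K (AdjoinRoot g)).injective p, r, ρ, ι, hr0, hιinj,
    huniq _ _ fun x => (hM a x).symm.trans (ha x), huniq _ _ fun x => (hM b x).symm.trans (hb x),
    hM⟩

end Cfsg.Agent.Techniques.SL2.Rep
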