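import Cfsg.Agent.Techniques.SL2.Natural
import Cfsg.Agent.Techniques.SL2.Rep
import Cfsg.Agent.Techniques.SL2.Pairs
import Cfsg.Prelude.Def_LocalEven

/-!
# Bad quadratic pairs involve `Qd(p)`
-/

namespace Cfsg.Agent.Techniques.SL2.Qd

open Matrix
open scoped MatrixGroups

section sections

universe u v w

variable {G : Type u} [Group G] {H : Type v} [Group H] {M : Type w} [Group M]

theorem involves_of_surj {K : Subgroup G} (f : K →* H) (hf : Function.Surjective f) :
    Cfsg.Involves H G := by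
  have e : (f.ker.map K.subtype).subgroupOf K = f.ker :=
    Subgroup.comap_map_eq_self_of_injective K.subtype_injective _
  have hn : ((f.ker.map K.subtype).subgroupOf K).Normal := by rw [e]; infer_instance
  exact ⟨K, f.ker.map K.subtype, hn,
    ⟨((QuotientGroup.quotientMulEquivOfEq e).trans
      (QuotientGroup.quotientKerEquivOfSurjective f hf))⟩⟩

theorem exists_surj (h : Cfsg.Involves H G) :
    ∃ (K : Subgroup G) (f : K →* H), Function.Surjective f := by
  obtain ⟨K, R, hR, ⟨e⟩⟩ := h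
  exact ⟨K, e.toMonoidHom.comp (QuotientGroup.mk' _),
    e.surjective.comp (QuotientGroup.mk'_surjective _)⟩

theorem involves_trans {L : Subgroup G} (g : L →* M) (hg : Function.Surjective g)
    (h : Cfsg.Involves H M) : Cfsg.Involves H G := by
  obtain ⟨K, f, hf⟩ := exists_surj h
  let e := ((K.comap g).equivMapOfInjective L.subtype L.subtype_injective).symm
  exact involves_of_surj ((f.comp (g.subgroupComap K)).comp e.toMonoidHom)
    ((hf.comp (MonoidHom.subgroupComap_surjective_of_surjective g K hg)).comp e.surjective)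

theorem involves_quotient {K R : Subgroup G} [(R.subgroupOf K).Normal]
    (h : Cfsg.Involves H (K ⧸ R.subgroupOf K)) : Cfsg.Involves H G :=
  involves_trans _ (QuotientGroup.mk'_surjective _) h

theorem involves_of_le {A B : Subgroup G} (hAB : A ≤ B) (h : Cfsg.Involves H A) :
    Cfsg.Involves H B :=
  involves_trans (L := A.subgroupOf B) (Subgroup.subgroupOfEquivOfLe hAB).toMonoidHom
    (Subgroup.subgroupOfEquivOfLe hAB).surjective h

end sections

variable {p : ℕ} [hp : Fact p.Prime]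

/-- The affine matrix. -/
def aff (A : SL(2, ZMod p)) (x : Fin 2 → ZMod p) : SL(3, ZMod p) :=
  ⟨!![A.1 0 0, A.1 0 1, x 0; A.1 1 0, A.1 1 1, x 1; 0, 0, 1], by
    have h := A.2
    rw [det_fin_two] at h
    rw [det_fin_three]
    simp
    linear_combination h⟩

theorem aff_mul (A B : SL(2, ZMod p)) (x y : Fin 2 → ZMod p) :
    aff A x * aff B y = aff (A * B) (x + A.1 *ᵥ y) := by
  apply Subtype.ext
  show (aff A x).1 * (aff B y).1 = _
  ext i j
  fin_cases i <;> fin_cases j <;>
    simp [aff, Matrix.mul_apply, Fin.sum_univ_three, Fin.sum_univ_two, Matrix.mulVec, dotProduct,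
      Matrix.vecMul] <;> ring

theorem aff_mem_qd (A : SL(2, ZMod p)) (x : Fin 2 → ZMod p) : aff A x ∈ Cfsg.qd p :=
  Subgroup.subset_closure ⟨rfl, rfl, rfl⟩

theorem exists_aff_eq {M : SL(3, ZMod p)} (hM : M ∈ Cfsg.qd p) : ∃ A x, aff A x = M := by
  induction hM using Subgroup.closure_induction with
  | mem M h =>
    obtain ⟨h0, h1, h2⟩ := h
    refine ⟨⟨!![M.1 0 0, M.1 0 1; M.1 1 0, M.1 1 1], ?_⟩, ![M.1 0 2, M.1 1 2], ?_⟩
    · have h := M.2
      rw [det_fin_three, h0, h1, h2] at h
      rw [det_fin_two_of]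
      linear_combination h
    · apply Subtype.ext
      ext i j
      fin_cases i <;> fin_cases j <;> simp [aff, h0, h1, h2]
  | one =>
    refine ⟨1, 0, ?_⟩
    apply Subtype.ext
    ext i j
    fin_cases i <;> fin_cases j <;> simp [aff]
  | mul a b _ _ ha hb =>
    obtain ⟨A, x, rfl⟩ := ha
    obtain ⟨B, y, rfl⟩ := hb
    exact ⟨_, _, (aff_mul A B x y).symm⟩
  | inv a _ ha =>
    obtain ⟨A, x, rfl⟩ := ha
    refine ⟨A⁻¹, -((A⁻¹ : SL(2, ZMod p)).1 *ᵥ x), (inv_eq_of_mul_eq_one_left ?_).symm⟩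
    rw [aff_mul, inv_mul_cancel, neg_add_cancel]
    apply Subtype.ext
    ext i j
    fin_cases i <;> fin_cases j <;> simp [aff]

universe u

variable {X : Type u} [Group X] [Finite X]

/-- A group acting as `SL₂(p)` on a natural module inside `X` shows that `Qd(p)` is involved. -/
theorem involves_of_natural (hp2 : p ≠ 2) (K₀ : Subgroup X) (θ : K₀ →* SL(2, ZMod p))
    (hθ : Function.Surjective θ) (j : Multiplicative (Fin 2 → ZMod p) →* X)
    (hj : Function.Injective j)
    (hact : ∀ (k : K₀) (x : Fin 2 → ZMod p), (k : X) * j (Multiplicative.ofAdd x) * (k : X)⁻¹ =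
      j (Multiplicative.ofAdd ((θ k).1 *ᵥ x))) :
    Cfsg.Involves ↥(Cfsg.qd p) X := by
  classical
  set m : SL(2, ZMod p) := Main.negOne (ZMod p) with hm
  let Zm : Subgroup SL(2, ZMod p) := Subgroup.zpowers m
  have : Zm.Normal := ⟨fun c hc g => by
    obtain ⟨n, rfl⟩ := Subgroup.mem_zpowers_iff.1 hc
    have hc : Commute g (m ^ n) := Commute.zpow_right (Main.negOne_comm g) n
    rw [hc.eq, mul_inv_cancel_right]
    exact Subgroup.mem_zpowers_iff.2 ⟨n, rfl⟩⟩
  let Z₀ := Zm.comap θ
  have : Fact (Nat.Prime 2) := ⟨Nat.prime_two⟩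
  obtain ⟨S⟩ := (inferInstance : Nonempty (Sylow 2 Z₀))
  set SK : Subgroup K₀ := (S : Subgroup Z₀).map Z₀.subtype with hSK
  set N := Subgroup.normalizer (SK : Set K₀) with hN
  have hm2 : orderOf m = 2 :=
    orderOf_eq_prime (by rw [pow_two]; exact Main.negOne_sq) (Main.negOne_ne_one p hp2)
  -- `S` contains an element acting as `-1`
  obtain ⟨s, hsS, hs⟩ : ∃ s ∈ SK, θ s = m := by
    let f : Z₀ →* Zm := θ.subgroupComap Zm
    have hf : Function.Surjective f :=
      MonoidHom.subgroupComap_surjective_of_surjective θ Zm hθ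
    have h2 : IsPGroup 2 Zm := IsPGroup.of_card (n := 1) (by rw [Nat.card_zpowers, hm2, pow_one])
    have hmem : (⟨m, Subgroup.mem_zpowers m⟩ : Zm) ∈ (S.mapSurjective hf : Subgroup Zm) := by
      obtain ⟨Q, hQ⟩ := (h2.to_subgroup (⊤ : Subgroup Zm)).exists_le_sylow
      have e : (S.mapSurjective hf : Subgroup Zm) = ⊤ := by
        refine ((S.mapSurjective hf).is_maximal' (h2.to_subgroup ⊤) le_top).symm
      rw [e]; exact Subgroup.mem_top _
    obtain ⟨s, hs, hse⟩ := hmem
    exact ⟨s, ⟨s, hs, rfl⟩, congrArg Subtype.val hse⟩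
  -- the normaliser covers the quotient
  have hcover : N ⊔ Z₀ = ⊤ := Sylow.normalizer_sup_eq_top S
  have hθN : Function.Surjective (θ.comp N.subtype) := by
    intro y
    obtain ⟨k, rfl⟩ := hθ y
    have hk : k ∈ N ⊔ Z₀ := hcover ▸ Subgroup.mem_top k
    rw [Subgroup.mem_sup_of_normal_right] at hk
    obtain ⟨n, hn, zz, hzz, rfl⟩ := hk
    obtain ⟨i, hi⟩ := Subgroup.mem_zpowers_iff.1 (show θ zz ∈ Zm from hzz)
    have hsN : s ∈ N := Subgroup.le_normalizer hsS
    refine ⟨⟨n, hn⟩ * ⟨s, hsN⟩ ^ i, ?_⟩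
    simp [hs, hi]
  -- the translations avoid the normaliser
  have hinter : ∀ (k : K₀) (x : Fin 2 → ZMod p), k ∈ N → (k : X) = j (Multiplicative.ofAdd x) →
      x = 0 := by
    intro k x hk hkx
    have h1 := hact s x
    rw [← hkx, hs] at h1
    have hneg : (m.1 *ᵥ x) = -x := by simp [hm, Main.negOne, neg_mulVec]
    rw [hneg] at h1
    have hinv : j (Multiplicative.ofAdd (-x)) = (k : X)⁻¹ := by
      rw [ofAdd_neg, map_inv, hkx]
    rw [hinv] at h1
    have h2 : k * s * k⁻¹ * s⁻¹ ∈ SK := mul_mem ((Subgroup.mem_normalizer_iff.1 hk s).1 hsS) (inv_mem hsS)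
    have h3 : ((k * s * k⁻¹ * s⁻¹ : K₀) : X) = (k : X) * k := by
      have e : ((s : K₀) : X) * (k : X)⁻¹ * (s : X)⁻¹ = (k : X) := by
        have := congrArg (fun y => y⁻¹) h1
        simpa [mul_assoc] using this
      calc ((k * s * k⁻¹ * s⁻¹ : K₀) : X) = (k : X) * ((s : X) * (k : X)⁻¹ * (s : X)⁻¹) := by
            simp [mul_assoc]
        _ = _ := by rw [e]
    have hSKp : IsPGroup 2 SK := S.isPGroup'.map _
    obtain ⟨n, hn⟩ := hSKp ⟨_, h2⟩
    have h4 : ((k : X) * k) ^ 2 ^ n = 1 := by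
      rw [← h3, ← SubmonoidClass.coe_pow, show (k * s * k⁻¹ * s⁻¹) ^ 2 ^ n = 1 from congrArg Subtype.val hn]
      rfl
    rw [hkx, ← map_mul, ← map_pow, ← map_one j] at h4
    have h5 := congrArg Multiplicative.toAdd (hj h4)
    rw [toAdd_pow, toAdd_mul, toAdd_one, toAdd_ofAdd] at h5
    have h6 : ((2 ^ n * 2 : ℕ) : ZMod p) • x = 0 := by
      rw [Nat.cast_smul_eq_nsmul, mul_nsmul', two_nsmul]; exact h5
    refine (smul_eq_zero.1 h6).resolve_left ?_
    rw [← pow_succ, Nat.cast_pow]
    exact pow_ne_zero _ (by exact_mod_cast Basic.two_ne_zero' (F := ZMod p) p hp2)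
  -- the semidirect product
  let K₁ : Subgroup X := N.map K₀.subtype
  have hK₁ : K₁ ≤ K₀ := Subgroup.map_subtype_le N
  let τ : K₁ →* SL(2, ZMod p) := θ.comp (Subgroup.inclusion hK₁)
  have hτ : Function.Surjective τ := fun y => by
    obtain ⟨⟨k, hk⟩, rfl⟩ := hθN y
    exact ⟨⟨k, k, hk, rfl⟩, rfl⟩
  have hact' : ∀ (k : K₁) (x : Fin 2 → ZMod p), (k : X) * j (Multiplicative.ofAdd x) =
      j (Multiplicative.ofAdd ((τ k).1 *ᵥ x)) * (k : X) := fun k x => by
    have := hact (Subgroup.inclusion hK₁ k) x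
    rw [← mul_inv_eq_iff_eq_mul]
    exact this
  let E : Subgroup X :=
    { carrier := {g | ∃ (x : Fin 2 → ZMod p) (k : K₁), j (Multiplicative.ofAdd x) * (k : X) = g}
      one_mem' := ⟨0, 1, by simp⟩
      mul_mem' := by
        rintro _ _ ⟨x, k, rfl⟩ ⟨y, l, rfl⟩
        refine ⟨x + (τ k).1 *ᵥ y, k * l, ?_⟩
        rw [ofAdd_add, map_mul, Subgroup.coe_mul, mul_assoc, mul_assoc,
          ← mul_assoc (k : X), hact', mul_assoc]
      inv_mem' := by
        rintro _ ⟨x, k, rfl⟩
        refine ⟨(τ k⁻¹).1 *ᵥ (-x), k⁻¹, ?_⟩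
        rw [← hact', ofAdd_neg, map_inv, _root_.mul_inv_rev, Subgroup.coe_inv] }
  have huniq : ∀ (x y : Fin 2 → ZMod p) (k l : K₁),
      j (Multiplicative.ofAdd x) * (k : X) = j (Multiplicative.ofAdd y) * (l : X) →
        x = y ∧ k = l := by
    intro x y k l h
    have h1 : (k : X) * (l : X)⁻¹ = j (Multiplicative.ofAdd (-x + y)) := by
      rw [ofAdd_add, map_mul, ofAdd_neg, map_inv, mul_inv_eq_iff_eq_mul, mul_assoc,
        eq_inv_mul_iff_mul_eq]
      exact h
    obtain ⟨kk, hkk, hkke⟩ := (k * l⁻¹ : K₁).2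
    have h2 := hinter kk (-x + y) hkk (by
      rw [← h1]; exact hkke)
    have hxy : x = y := neg_add_eq_zero.1 h2
    subst hxy
    exact ⟨rfl, Subtype.ext (mul_left_cancel h)⟩
  choose xc kc hc using fun e : E => e.2
  let Φ : E →* ↥(Cfsg.qd p) := MonoidHom.mk' (fun e => ⟨aff (τ (kc e)) (xc e), aff_mem_qd _ _⟩) (by
    intro e e'
    apply Subtype.ext
    show aff (τ (kc (e * e'))) (xc (e * e')) = aff (τ (kc e)) (xc e) * aff (τ (kc e')) (xc e')
    obtain ⟨h1, h2⟩ := huniq (xc (e * e')) (xc e + (τ (kc e)).1 *ᵥ xc e') (kc (e * e'))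
      (kc e * kc e') (by
        rw [hc, Subgroup.coe_mul, ← hc e, ← hc e', ofAdd_add, map_mul, Subgroup.coe_mul, mul_assoc,
          mul_assoc, ← mul_assoc ((kc e : K₁) : X), hact', mul_assoc])
    rw [aff_mul, h1, h2, map_mul])
  refine involves_of_surj Φ fun M => ?_
  obtain ⟨A, x, hAx⟩ := exists_aff_eq M.2
  obtain ⟨k, hk⟩ := hτ A
  let e : E := ⟨j (Multiplicative.ofAdd x) * (k : X), x, k, rfl⟩
  refine ⟨e, Subtype.ext ?_⟩
  show aff (τ (kc e)) (xc e) = M.1
  obtain ⟨h1, h2⟩ := huniq _ _ _ _ (hc e : _ = j (Multiplicative.ofAdd x) * (k : X))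
  rw [h1, h2, hk, hAx]

open Cfsg.Agent.PLocal.Quadratic in
/-- A bad pair of quadratic elements has a subgroup acting as `SL₂(p)` on a natural plane. -/
theorem exists_natural_of_bad_pair (hp2 : p ≠ 2) {W : Subgroup X}
    (hW : Cfsg.IsElementaryAbelian p W) {a b : X} (haN : a ∈ Subgroup.normalizer (W : Set X))
    (hbN : b ∈ Subgroup.normalizer (W : Set X)) (ha : Quad W a) (hb : Quad W b)
    (hnp : BadPair p W a b) :
    ∃ K₀ : Subgroup X, K₀ ≤ Subgroup.closure ({a, b} : Set X) ∧
      ∃ (θ : K₀ →* SL(2, ZMod p)) (j : Multiplicative (Fin 2 → ZMod p) →* X),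
        Function.Surjective θ ∧ Function.Injective j ∧ (∀ x, j x ∈ W) ∧
        ∀ (k : K₀) (x : Fin 2 → ZMod p), (k : X) * j (Multiplicative.ofAdd x) * (k : X)⁻¹ =
          j (Multiplicative.ofAdd ((θ k).1 *ᵥ x)) := by
  classical
  set H := Subgroup.closure ({a, b} : Set X) with hH
  have hHN : H ≤ Subgroup.normalizer (W : Set X) := (Subgroup.closure_le _).mpr (by
    rintro z (rfl | rfl); exacts [haN, hbN])
  letI : CommGroup W :=
    { (inferInstance : Group W) with mul_comm := fun x y => hW.1.is_comm.comm x y }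
  have hpx : ∀ x : Additive W, p • x = 0 := fun x => by
    apply Additive.toMul.injective
    rw [toMul_nsmul, toMul_zero]
    exact Subtype.ext (hW.2 _ (Additive.toMul x).2)
  letI : Module (ZMod p) (Additive W) := AddCommGroup.zmodModule (n := p) hpx
  let cj : H →* MulAut W := W.normalizerMonoidHom.comp (Subgroup.inclusion hHN)
  have hcj : ∀ (h : H) (v : W), ((cj h v : W) : X) = h * v * (h : X)⁻¹ := fun h v => rfl
  let L : H →* Module.End (ZMod p) (Additive W) :=
    { toFun := fun h => AddMonoidHom.toZModLinearMap p (MonoidHom.toAdditive (cj h).toMonoidHom)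
      map_one' := LinearMap.ext fun x => by
        show Additive.ofMul (cj 1 (Additive.toMul x)) = x
        rw [map_one]; rfl
      map_mul' := fun s t => LinearMap.ext fun x => by
        show Additive.ofMul (cj (s * t) (Additive.toMul x)) =
          Additive.ofMul (cj s (cj t (Additive.toMul x)))
        rw [map_mul]; rfl }
  have hL : ∀ h x, L h x = Additive.ofMul (cj h (Additive.toMul x)) := fun h x => rfl
  have hquad : ∀ z : H, Quad W (z : X) → (L z - 1) * (L z - 1) = 0 := by
    intro z hz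
    refine LinearMap.ext fun x => ?_
    have h1 := fix_of_quad hz (Additive.toMul x).2
    have h2 : cj z (Additive.toMul x * (cj z (Additive.toMul x))⁻¹) =
        Additive.toMul x * (cj z (Additive.toMul x))⁻¹ := Subtype.ext h1
    have h3 : L z (x - L z x) = x - L z x := by
      rw [hL, hL]
      show Additive.ofMul (cj z (Additive.toMul (x - Additive.ofMul (cj z (Additive.toMul x))))) = _
      rw [toMul_sub, toMul_ofMul, div_eq_mul_inv, h2, ← div_eq_mul_inv, ofMul_div, ofMul_toMul]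
    rw [map_sub] at h3
    simp only [Module.End.mul_apply, LinearMap.sub_apply, Module.End.one_apply, LinearMap.zero_apply,
      map_sub]
    have h4 : L z (L z x) - L z x = L z x - x := by
      rw [← neg_inj, neg_sub, neg_sub]; exact h3
    rw [h4, sub_self]
  set a' : H := ⟨a, Subgroup.subset_closure (Or.inl rfl)⟩
  set b' : H := ⟨b, Subgroup.subset_closure (Or.inr rfl)⟩
  have hgen : Subgroup.closure ({a', b'} : Set H) = ⊤ := by
    apply Subgroup.map_injective H.subtype_injective
    rw [MonoidHom.map_closure, ← MonoidHom.range_eq_map, Subgroup.range_subtype, Set.image_pair]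
    rfl
  have hn : ¬ IsNilpotent ((L a' - 1) * (L b' - 1) + (L b' - 1) * (L a' - 1)) := by
    intro hn
    refine hnp fun h hh => ?_
    obtain ⟨k, hk⟩ :=
      Rep.pow_eq_one_of_nilpotent p L hgen (hquad a' ha) (hquad b' hb) hn ⟨h, hh⟩
    refine ⟨k, Subgroup.mem_centralizer_iff.2 fun v hv => ?_⟩
    have h1 := congrArg Additive.toMul (LinearMap.congr_fun hk (Additive.ofMul ⟨v, hv⟩))
    rw [hL, Module.End.one_apply, toMul_ofMul, toMul_ofMul, Subtype.ext_iff, hcj] at h1
    exact (mul_inv_eq_iff_eq_mul.1 h1).symm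
  haveI : CharP (ZMod p) p := ZMod.charP p
  obtain ⟨F, _, _, _, z, ρ, ι, hz, hι, hρa, hρb, hρ⟩ :=
    Rep.exists_plane p L hgen (hquad a' ha) (hquad b' hb) hn
  -- Dickson
  have hnp' : ¬ IsPGroup p (Subgroup.closure ({ρ a', ρ b'} : Set SL(2, F))) := by
    intro hP
    obtain ⟨S, hS⟩ := hP.exists_le_sylow
    obtain ⟨g, hg⟩ := Classical.GL2.exists_eq_conj_U p S
    subst hg
    have hmem : ∀ y, y ∈ ((g • Classical.GL2.sylowSL p : Sylow p SL(2, F)) : Subgroup SL(2, F)) →
        ∃ c, g⁻¹ * y * g = Classical.GL2.uniSL c := fun y hy => by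
      rw [Sylow.coe_subgroup_smul, Subgroup.mem_pointwise_smul_iff_inv_smul_mem,
        Classical.GL2.coe_sylowSL] at hy
      obtain ⟨c, hc⟩ := hy
      exact ⟨c.toAdd, by simpa [MulAut.smul_def, Classical.GL2.uniHom] using hc.symm⟩
    obtain ⟨c, hc⟩ := hmem _ (hS (Subgroup.subset_closure (Or.inl rfl)))
    obtain ⟨d, hd⟩ := hmem _ (hS (Subgroup.subset_closure (Or.inr rfl)))
    have hcomm : ρ a' * ρ b' = ρ b' * ρ a' := by
      have e1 : ρ a' = g * Classical.GL2.uniSL c * g⁻¹ := by rw [← hc]; group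
      have e2 : ρ b' = g * Classical.GL2.uniSL d * g⁻¹ := by rw [← hd]; group
      rw [e1, e2]
      calc g * Classical.GL2.uniSL c * g⁻¹ * (g * Classical.GL2.uniSL d * g⁻¹)
          = g * (Classical.GL2.uniSL c * Classical.GL2.uniSL d) * g⁻¹ := by group
        _ = g * (Classical.GL2.uniSL d * Classical.GL2.uniSL c) * g⁻¹ := by
            rw [Classical.GL2.uniSL_mul, Classical.GL2.uniSL_mul, add_comm]
        _ = _ := by group
    have h00 := congrFun (congrFun (congrArg Subtype.val hcomm) 0) 0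
    rw [hρa, hρb] at h00
    simp [Classical.GL2.coe_uniSL, Classical.GL2.coe_lowSL] at h00
    exact hz h00
  have hpow : ∀ y : H, Quad W (y : X) → ρ y ^ p = 1 := by
    intro y hy
    rw [← map_pow]
    refine Classical.GL2.sl_ext (Matrix.ext_iff_mulVec.2 fun x => hι ?_)
    rw [← hρ, map_pow]
    have : L y ^ p = 1 := by
      rcases subsingleton_or_nontrivial (Additive W) with hW0 | hW0
      · exact LinearMap.ext fun x => Subsingleton.elim _ _
      haveI : CharP (Module.End (ZMod p) (Additive W)) p :=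
        charP_of_injective_algebraMap (algebraMap (ZMod p) _).injective p
      have h2 : (L y - 1) ^ p = 0 :=
        pow_eq_zero_of_le hp.out.two_le (by rw [pow_two]; exact hquad y hy)
      rwa [sub_pow_char_of_commute _ (Commute.one_right _), one_pow, sub_eq_zero] at h2
    rw [this]
    simp
  have hr := Pairs.one_lt_card_sylow (p := p) (hpow a' ha) (hpow b' hb) hnp'
  obtain ⟨φ', hφ'⟩ := Main.hasSL2 p hp2 _ hr
  set φ : SL(2, ZMod p) →* SL(2, F) := (Subgroup.subtype _).comp φ' with hφdef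
  have hφ : Function.Injective φ := Subtype.coe_injective.comp hφ'
  have hrange : φ.range ≤ ρ.range := by
    rintro _ ⟨M, rfl⟩
    refine (Subgroup.closure_le _).2 ?_ (φ' M).2
    rintro _ (rfl | rfl)
    exacts [⟨a', rfl⟩, ⟨b', rfl⟩]
  obtain ⟨P, hP, hPM⟩ := Natural.exists_basis hp2 φ hφ
  -- the natural module
  set f := ZMod.castHom (dvd_refl p) F with hf
  let jj : (Fin 2 → ZMod p) →+ Additive W :=
    { toFun := fun x => ι (P *ᵥ (f ∘ x))
      map_zero' := by
        rw [show f ∘ (0 : Fin 2 → ZMod p) = 0 from funext fun i => map_zero f, mulVec_zero, map_zero]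
      map_add' := fun x y => by
        rw [show f ∘ (x + y) = f ∘ x + f ∘ y from funext fun i => map_add f _ _, mulVec_add,
          map_add] }
  let j : Multiplicative (Fin 2 → ZMod p) →* X :=
    { toFun := fun x => ((Additive.toMul (jj x.toAdd) : W) : X)
      map_one' := by rw [toAdd_one, map_zero]; rfl
      map_mul' := fun x y => by rw [toAdd_mul, map_add]; rfl }
  have hj' : ∀ x, j (Multiplicative.ofAdd x) = ((Additive.toMul (jj x) : W) : X) := fun x => rfl
  have hj : Function.Injective j := by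
    intro x y h
    have h1 : jj x.toAdd = jj y.toAdd := Additive.toMul.injective (Subtype.ext h)
    have h2 := hι h1
    have h3 : f ∘ x.toAdd = f ∘ y.toAdd :=
      Matrix.mulVec_injective_iff_isUnit.2
        ((Matrix.isUnit_iff_isUnit_det P).2 (isUnit_iff_ne_zero.2 hP)) h2
    exact Multiplicative.toAdd.injective (funext fun i => f.injective (congrFun h3 i))
  -- the acting group
  let e := MonoidHom.ofInjective hφ
  let Hφ : Subgroup H := φ.range.comap ρ
  let θ' : Hφ →* SL(2, ZMod p) := e.symm.toMonoidHom.comp (ρ.subgroupComap φ.range)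
  let K₀ : Subgroup X := Hφ.map H.subtype
  let eK := (Hφ.equivMapOfInjective H.subtype H.subtype_injective).symm
  refine ⟨K₀, Subgroup.map_subtype_le _, θ'.comp eK.toMonoidHom, j, ?_, hj,
    fun x => (Additive.toMul (jj x.toAdd) : W).2, ?_⟩
  · have h1 : Function.Surjective (ρ.subgroupComap φ.range) := by
      rintro ⟨y, hy⟩
      obtain ⟨h, rfl⟩ := hrange hy
      exact ⟨⟨h, hy⟩, rfl⟩
    intro M
    obtain ⟨h', hh'⟩ := h1 (e M)
    refine ⟨eK.symm h', ?_⟩
    show e.symm (ρ.subgroupComap φ.range (eK (eK.symm h'))) = M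
    rw [eK.apply_symm_apply, hh', e.symm_apply_apply]
  · intro k x
    set k' := eK k with hk'
    have hkX : ((k : X)) = ((k' : H) : X) := by
      rw [show k = eK.symm k' from (eK.symm_apply_apply k).symm]
      rfl
    have hθ : φ (θ' k') = ρ k' := congrArg Subtype.val (e.apply_symm_apply _)
    show (k : X) * _ * (k : X)⁻¹ = _
    rw [hkX, hj', hj', ← hcj]
    refine congrArg Subtype.val (congrArg Additive.toMul (?_ : L k' (jj x) = jj _))
    show L (k' : H) (ι (P *ᵥ (f ∘ x))) = ι (P *ᵥ (f ∘ _))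
    rw [hρ, ← hθ, mulVec_mulVec, hPM, ← mulVec_mulVec]
    congr 2
    funext i
    simp [Matrix.mulVec, dotProduct, Fin.sum_univ_two, Function.comp, k', hk', hf]

open Cfsg.Agent.PLocal.Quadratic in
/-- A bad pair of quadratic elements involves `Qd(p)`. -/
theorem involves_qd_of_bad_pair (hp2 : p ≠ 2) {W : Subgroup X}
    (hW : Cfsg.IsElementaryAbelian p W) {a b : X} (haN : a ∈ Subgroup.normalizer (W : Set X))
    (hbN : b ∈ Subgroup.normalizer (W : Set X)) (ha : Quad W a) (hb : Quad W b)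
    (hnp : BadPair p W a b) : Cfsg.Involves ↥(Cfsg.qd p) X := by
  obtain ⟨K₀, -, θ, j, hθ, hj, -, hact⟩ := exists_natural_of_bad_pair hp2 hW haN hbN ha hb hnp
  exact involves_of_natural hp2 K₀ θ hθ j hj hact

end Cfsg.Agent.Techniques.SL2.Qd
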