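import Cfsg.Agent.Techniques.SL2.QdProps
import Cfsg.Agent.Techniques.Functor.FusionSections

/-!
# No family of characteristic functors controls fusion in `Qd(p)`
-/

namespace Cfsg.Agent.Techniques.SL2.QdFusion

open Matrix
open scoped MatrixGroups
open Cfsg Cfsg.Agent.Techniques.SL2.Qd Cfsg.Agent.Techniques.SL2.QdProps

variable (p : ℕ) [hp : Fact p.Prime]

/-- The entries of an element of `Qd(p)`. -/
def en (g : ↥(qd p)) : Matrix (Fin 3) (Fin 3) (ZMod p) := ((g : SL(3, ZMod p)) : Matrix _ _ _)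

theorem en_trans (x : Fin 2 → ZMod p) (A : SL(2, ZMod p)) :
    en p (trans p (Multiplicative.ofAdd x) * lin p A) =
      !![A.1 0 0, A.1 0 1, x 0; A.1 1 0, A.1 1 1, x 1; 0, 0, 1] := by
  show (aff (1 : SL(2, ZMod p)) x * aff A 0).1 = _
  rw [aff_mul]
  simp [aff]

theorem en_mul_bot (g h : ↥(qd p)) :
    en p (g * h) 1 0 = en p g 1 0 * en p h 0 0 + en p g 1 1 * en p h 1 0 ∧
      en p (g * h) 0 0 = en p g 0 0 * en p h 0 0 + en p g 0 1 * en p h 1 0 := by
  obtain ⟨A, x, rfl⟩ := exists_eq_mul p h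
  have hh := en_trans p x A
  show (en p g * en p (trans p (Multiplicative.ofAdd x) * lin p A)) 1 0 = _ ∧
    (en p g * en p (trans p (Multiplicative.ofAdd x) * lin p A)) 0 0 = _
  rw [hh]
  constructor <;> simp [Matrix.mul_apply, Fin.sum_univ_three]

theorem en_one : en p 1 = 1 := rfl

/-- The Borel subgroup. -/
def B : Subgroup ↥(qd p) :=
  { carrier := {g | en p g 1 0 = 0}
    one_mem' := by simp [en_one]
    mul_mem' := fun {g h} hg hh => by
      simp only [Set.mem_setOf_eq] at hg hh ⊢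
      rw [(en_mul_bot p g h).1, hg, hh]; ring
    inv_mem' := fun {g} hg => by
      simp only [Set.mem_setOf_eq] at hg ⊢
      obtain ⟨A, x, h⟩ := exists_eq_mul p g⁻¹
      have h1 := (en_mul_bot p g g⁻¹).1
      rw [mul_inv_cancel, en_one, hg, zero_mul, zero_add] at h1
      have h2 : en p g 1 1 ≠ 0 := by
        intro h2
        obtain ⟨C, y, hC⟩ := exists_eq_mul p g
        rw [hC, en_trans] at hg h2
        have hd := C.2
        rw [det_fin_two] at hd
        simp at hg h2
        rw [hg, h2] at hd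
        simp at hd
      have h3 : (1 : Matrix (Fin 3) (Fin 3) (ZMod p)) 1 0 = 0 := by simp
      rw [h3] at h1
      exact (mul_eq_zero.1 h1.symm).resolve_left h2 }

theorem mem_B {g : ↥(qd p)} : g ∈ B p ↔ en p g 1 0 = 0 := Iff.rfl

/-- The standard Sylow subgroup. -/
def S : Subgroup ↥(qd p) :=
  { carrier := {g | en p g 1 0 = 0 ∧ en p g 0 0 = 1}
    one_mem' := by simp [en_one]
    mul_mem' := fun {g h} hg hh => by
      simp only [Set.mem_setOf_eq] at hg hh ⊢
      rw [(en_mul_bot p g h).1, (en_mul_bot p g h).2, hg.1, hg.2, hh.1, hh.2]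
      simp
    inv_mem' := fun {g} hg => by
      simp only [Set.mem_setOf_eq] at hg ⊢
      have h1 : en p g⁻¹ 1 0 = 0 := (B p).inv_mem (mem_B p |>.2 hg.1)
      have h2 := (en_mul_bot p g⁻¹ g).2
      rw [inv_mul_cancel, en_one, hg.1, hg.2] at h2
      simp at h2
      exact ⟨h1, h2.symm⟩ }

theorem mem_S {g : ↥(qd p)} : g ∈ S p ↔ en p g 1 0 = 0 ∧ en p g 0 0 = 1 := Iff.rfl

/-- An element of `S`. -/
def el (a x0 x1 : ZMod p) : ↥(qd p) :=
  trans p (Multiplicative.ofAdd ![x0, x1]) * lin p (Classical.GL2.uniSL a)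

theorem en_el (a x0 x1 : ZMod p) : en p (el p a x0 x1) = !![1, a, x0; 0, 1, x1; 0, 0, 1] := by
  rw [el, en_trans]
  simp [Classical.GL2.coe_uniSL]

theorem el_mem (a x0 x1 : ZMod p) : el p a x0 x1 ∈ S p := by
  rw [mem_S, en_el]; simp

theorem el_mul (a x0 x1 b y0 y1 : ZMod p) :
    el p a x0 x1 * el p b y0 y1 = el p (a + b) (x0 + y0 + a * y1) (x1 + y1) := by
  refine Subtype.ext (Subtype.ext ?_)
  show en p (el p a x0 x1) * en p (el p b y0 y1) = en p _
  rw [en_el, en_el, en_el]
  ext i j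
  fin_cases i <;> fin_cases j <;> simp [Matrix.mul_apply, Fin.sum_univ_three] <;> ring

theorem eq_el {g : ↥(qd p)} (hg : g ∈ S p) :
    g = el p (en p g 0 1) (en p g 0 2) (en p g 1 2) := by
  obtain ⟨A, x, rfl⟩ := exists_eq_mul p g
  rw [mem_S, en_trans] at hg
  have hd := A.2
  rw [det_fin_two] at hd
  obtain ⟨h1, h2⟩ := hg
  simp at h1 h2
  rw [h1, h2] at hd
  simp at hd
  refine Subtype.ext (Subtype.ext ?_)
  show en p _ = en p _
  rw [en_el, en_trans]
  ext i j
  fin_cases i <;> fin_cases j <;> simp [h1, h2, hd]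

theorem isPGroup_S : IsPGroup p (S p) := by
  have e : ↥(S p) ≃ ZMod p × ZMod p × ZMod p :=
    { toFun := fun g => (en p g.1 0 1, en p g.1 0 2, en p g.1 1 2)
      invFun := fun t => ⟨el p t.1 t.2.1 t.2.2, el_mem p _ _ _⟩
      left_inv := fun g => Subtype.ext (eq_el p g.2).symm
      right_inv := fun t => by simp [en_el] }
  refine IsPGroup.of_card (n := 3) ?_
  rw [Nat.card_congr e, Nat.card_prod, Nat.card_prod, Nat.card_zmod]
  ring

theorem V_le_S : V p ≤ S p := by
  rintro _ ⟨x, rfl⟩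
  have e : trans p x = trans p (Multiplicative.ofAdd x.toAdd) * lin p 1 := by
    rw [map_one, mul_one]; rfl
  rw [mem_S, e, en_trans]
  simp

theorem proper_le_B {M : Subgroup ↥(qd p)} (hS : S p ≤ M) (hne : M ≠ ⊤) : M ≤ B p := by
  intro g hg
  rw [mem_B]
  by_contra h
  refine hne ((Subgroup.eq_top_iff' M).2 fun w => ?_)
  obtain ⟨A, x, rfl⟩ := exists_eq_mul p g
  rw [en_trans] at h
  simp at h
  have hA : A ∈ M.comap (lin p) := by
    rw [Subgroup.mem_comap]
    exact (M.mul_mem_cancel_left (hS (V_le_S p ⟨_, rfl⟩))).1 hg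
  have hU : Classical.GL2.U (ZMod p) ≤ M.comap (lin p) := by
    rintro _ ⟨c, rfl⟩
    refine Subgroup.mem_comap.2 (hS ?_)
    have e : lin p (Classical.GL2.uniHom (ZMod p) c) = el p c.toAdd 0 0 := by
      rw [el, show (![0, 0] : Fin 2 → ZMod p) = 0 from funext fun i => by fin_cases i <;> rfl,
        ofAdd_zero, map_one, one_mul]
      rfl
    rw [e]; exact el_mem p _ _ _
  have hne' : A • Classical.GL2.sylowSL (F := ZMod p) p ≠ Classical.GL2.sylowSL p := by
    intro he
    refine h ?_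
    have h2 := Sylow.smul_eq_iff_mem_normalizer.1 he
    have h4 : ∀ y : SL(2, ZMod p), y ∈ ((Classical.GL2.sylowSL (F := ZMod p) p : Sylow p SL(2, ZMod p)) :
        Subgroup SL(2, ZMod p)) → y.1 1 0 = 0 ∧ y.1 0 0 = 1 := by
      intro y hy
      rw [Classical.GL2.coe_sylowSL] at hy
      obtain ⟨c, rfl⟩ := hy
      simp [Classical.GL2.coe_uniHom]
    exact (Borel.mem_normalizer_iff (ι := MonoidHom.id _) p Function.injective_id h4 (by
      intro hb
      have h5 : Classical.GL2.uniSL (1 : ZMod p) ∈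
          ((Classical.GL2.sylowSL (F := ZMod p) p : Sylow p SL(2, ZMod p)) : Subgroup SL(2, ZMod p)) := by
        rw [Classical.GL2.coe_sylowSL]; exact ⟨Multiplicative.ofAdd 1, rfl⟩
      rw [hb, Subgroup.mem_bot] at h5
      exact one_ne_zero (α := ZMod p)
        (by simpa [Classical.GL2.coe_uniSL] using congrFun (congrFun (congrArg Subtype.val h5) 0) 1))
      A).1 h2
  have htop : M.comap (lin p) = ⊤ := by
    rw [eq_top_iff, ← Classical.GL2.sylow_sup_eq_top p _ _ hne']
    refine sup_le ?_ (by rw [Classical.GL2.coe_sylowSL]; exact hU)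
    intro y hy
    rw [Sylow.coe_subgroup_smul, Subgroup.mem_pointwise_smul_iff_inv_smul_mem,
      Classical.GL2.coe_sylowSL] at hy
    have h3 := hU hy
    rw [MulAut.smul_def, MulAut.inv_apply, MulAut.conj_symm_apply] at h3
    have h4 := mul_mem (mul_mem hA h3) (inv_mem hA)
    have e : A * (A⁻¹ * y * A) * A⁻¹ = y := by group
    rwa [e] at h4
  obtain ⟨C, y, rfl⟩ := exists_eq_mul p w
  refine mul_mem (hS (V_le_S p ⟨_, rfl⟩)) ?_
  have : C ∈ M.comap (lin p) := htop ▸ Subgroup.mem_top C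
  exact this

/-- The standard Sylow subgroup is a Sylow subgroup. -/
theorem S_maximal {Q : Subgroup ↥(qd p)} (hQ : IsPGroup p Q) (hle : S p ≤ Q) : Q = S p := by
  refine le_antisymm ?_ hle
  by_cases htop : Q = ⊤
  · exfalso
    have h2 : IsPGroup p ↥(qd p) := (hQ.to_le htop.ge).of_equiv Subgroup.topEquiv
    have h3 : IsPGroup p SL(2, ZMod p) := by
      refine h2.of_injective (lin p) fun A C h => ?_
      refine Classical.GL2.sl_ext (Matrix.ext fun i j => ?_)
      have h' : aff A 0 = aff C 0 := congrArg Subtype.val h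
      fin_cases i <;> fin_cases j
      · simpa [aff] using congrFun (congrFun (congrArg Subtype.val h') 0) 0
      · simpa [aff] using congrFun (congrFun (congrArg Subtype.val h') 0) 1
      · simpa [aff] using congrFun (congrFun (congrArg Subtype.val h') 1) 0
      · simpa [aff] using congrFun (congrFun (congrArg Subtype.val h') 1) 1
    obtain ⟨n, hn⟩ := IsPGroup.iff_card.1 h3
    rw [Classical.GL2.natCard_SL_two, ZMod.card] at hn
    have h5 : p + 1 ∣ p ^ n := hn ▸ Dvd.dvd.mul_left (Dvd.intro_left _ rfl) _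
    obtain ⟨m, -, hm⟩ := (Nat.dvd_prime_pow hp.out).1 h5
    rcases m with _ | m
    · simp at hm; exact hp.out.ne_zero hm
    · have : p ∣ p + 1 := hm ▸ dvd_pow_self p m.succ_ne_zero
      exact hp.out.one_lt.ne' (Nat.dvd_one.1 ((Nat.dvd_add_right dvd_rfl).1 this))
  · intro g hg
    have hgB : g ∈ B p := proper_le_B p hle htop hg
    obtain ⟨k, hk⟩ := hQ ⟨g, hg⟩
    have hk' : g ^ p ^ k = 1 := congrArg Subtype.val hk
    refine (mem_S p).2 ⟨hgB, ?_⟩
    have hpow : ∀ n : ℕ, en p (g ^ n) 0 0 = en p g 0 0 ^ n := by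
      intro n
      induction n with
      | zero => simp [en_one]
      | succ n ih =>
        rw [pow_succ, (en_mul_bot p _ _).2, ih, (mem_B p).1 hgB, mul_zero, add_zero, ← pow_succ]
    have h1 := hpow (p ^ k)
    rw [hk', en_one] at h1
    simp at h1
    exact h1.symm

/-- The outer automorphism of `S`. -/
def flip : ↥(S p) ≃* ↥(S p) where
  toFun g := ⟨el p (en p g.1 1 2) (en p g.1 0 1 * en p g.1 1 2 - en p g.1 0 2) (en p g.1 0 1),
    el_mem p _ _ _⟩
  invFun g := ⟨el p (en p g.1 1 2) (en p g.1 0 1 * en p g.1 1 2 - en p g.1 0 2) (en p g.1 0 1),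
    el_mem p _ _ _⟩
  left_inv g := by
    apply Subtype.ext
    conv_rhs => rw [eq_el p g.2]
    simp [en_el]
    congr 1
    ring
  right_inv g := by
    apply Subtype.ext
    conv_rhs => rw [eq_el p g.2]
    simp [en_el]
    congr 1
    ring
  map_mul' g h := by
    apply Subtype.ext
    show el p (en p (g.1 * h.1) 1 2) (en p (g.1 * h.1) 0 1 * en p (g.1 * h.1) 1 2 -
        en p (g.1 * h.1) 0 2) (en p (g.1 * h.1) 0 1) =
      el p (en p g.1 1 2) (en p g.1 0 1 * en p g.1 1 2 - en p g.1 0 2) (en p g.1 0 1) *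
        el p (en p h.1 1 2) (en p h.1 0 1 * en p h.1 1 2 - en p h.1 0 2) (en p h.1 0 1)
    have e : g.1 * h.1 = el p (en p g.1 0 1 + en p h.1 0 1)
        (en p g.1 0 2 + en p h.1 0 2 + en p g.1 0 1 * en p h.1 1 2)
        (en p g.1 1 2 + en p h.1 1 2) := by
      conv_lhs => rw [eq_el p g.2, eq_el p h.2]
      rw [el_mul]
    rw [e, el_mul, en_el]
    simp
    congr 1
    ring

theorem normal_eq_V {X : Subgroup ↥(qd p)} (hX : X.Normal) (hle : X ≤ S p) (hne : X ≠ ⊥) :
    X = V p := by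
  have hVX : V p ≤ X := by
    rcases V_minimal p (X ⊓ V p) inferInstance inf_le_right with h | h
    · exfalso
      refine hne ((Subgroup.eq_bot_iff_forall X).2 fun g hg => ?_)
      have hd : Disjoint X (V p) := disjoint_iff.2 h
      have hc : ∀ x, Commute g (trans p x) := fun x =>
        Subgroup.commute_of_normal_of_disjoint X (V p) hX inferInstance hd g _ hg ⟨x, rfl⟩
      obtain ⟨A, a, rfl⟩ := exists_eq_mul p g
      have hA : A = 1 := by
        refine Classical.GL2.sl_ext (Matrix.ext_iff_mulVec.2 fun v => ?_)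
        rw [Matrix.SpecialLinearGroup.coe_one, one_mulVec]
        refine (congrArg Multiplicative.toAdd (trans_injective p ?_) :
          (Multiplicative.ofAdd (A.1 *ᵥ v)).toAdd = (Multiplicative.ofAdd v).toAdd)
        rw [← conj_trans]
        have h1 := (hc (Multiplicative.ofAdd v)).eq
        rw [mul_assoc, ← mul_assoc (trans p (Multiplicative.ofAdd v)), ← map_mul,
          mul_comm (Multiplicative.ofAdd v), map_mul, mul_assoc] at h1
        rw [mul_inv_eq_iff_eq_mul]
        exact mul_left_cancel h1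
      subst hA
      rw [map_one, mul_one] at hg ⊢
      have : trans p (Multiplicative.ofAdd a) ∈ X ⊓ V p := ⟨hg, _, rfl⟩
      rwa [h, Subgroup.mem_bot] at this
    · exact h.ge.trans inf_le_left
  refine le_antisymm (fun g hg => ?_) hVX
  have heq := eq_el p (hle hg)
  rw [heq] at hg
  rw [heq]
  set t := en p g 0 1 with ht
  have hlin : lin p (Classical.GL2.uniSL t) ∈ X := by
    rw [el] at hg
    exact (X.mul_mem_cancel_left (hVX ⟨_, rfl⟩)).1 hg
  have h2 := hle (hX.conj_mem _ hlin (lin p (Classical.GL2.lowSL 1)))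
  rw [← map_inv, ← map_mul, ← map_mul] at h2
  have h3 := ((mem_S p).1 h2).1
  have e : ∀ C : SL(2, ZMod p), en p (lin p C) 1 0 = C.1 1 0 := fun C => by
    rw [← one_mul (lin p C), ← map_one (trans p), ← ofAdd_zero, en_trans]
    simp
  rw [e] at h3
  have hinv : (Classical.GL2.lowSL (1 : ZMod p))⁻¹ = Classical.GL2.lowSL (-1) := by
    refine inv_eq_of_mul_eq_one_right (Classical.GL2.sl_ext ?_)
    simp [Classical.GL2.coe_lowSL, one_fin_two]
  rw [hinv] at h3
  simp [Classical.GL2.coe_lowSL, Classical.GL2.coe_uniSL] at h3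
  rw [h3, el, Classical.GL2.uniSL_zero, map_one, mul_one]
  exact ⟨_, rfl⟩

/-- Nontrivial characteristic subgroups of `S` have small normalisers. -/
theorem normalizer_le_B {X : Subgroup ↥(qd p)} (hle : X ≤ S p) (hne : X ≠ ⊥)
    (hchar : ∀ φ : ↥(S p) ≃* ↥(S p), (X.subgroupOf (S p)).map φ.toMonoidHom = X.subgroupOf (S p)) :
    Subgroup.normalizer (X : Set ↥(qd p)) ≤ B p := by
  refine proper_le_B p ?_ ?_
  · intro s hs
    refine Subgroup.mem_normalizer_fintype fun x hx => ?_
    have h1 : (MulAut.conj (⟨s, hs⟩ : S p)) ⟨x, hle hx⟩ ∈ X.subgroupOf (S p) := by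
      rw [← hchar (MulAut.conj (⟨s, hs⟩ : S p))]
      exact ⟨⟨x, hle hx⟩, hx, rfl⟩
    exact h1
  · intro htop
    have hXV := normal_eq_V p (Subgroup.normalizer_eq_top_iff.1 htop) hle hne
    have h1 : flip p ⟨el p 0 0 1, el_mem p _ _ _⟩ ∈ X.subgroupOf (S p) := by
      rw [← hchar (flip p)]
      refine ⟨⟨el p 0 0 1, el_mem p _ _ _⟩, ?_, rfl⟩
      rw [SetLike.mem_coe, Subgroup.mem_subgroupOf, hXV]
      show el p 0 0 1 ∈ V p
      rw [el, Classical.GL2.uniSL_zero, map_one, mul_one]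
      exact ⟨_, rfl⟩
    rw [Subgroup.mem_subgroupOf, hXV] at h1
    obtain ⟨y, hy⟩ := h1
    have h2 : en p (trans p y) 0 1 = en p (el p 1 0 0) 0 1 := by
      rw [hy]
      show en p (el p (en p (el p 0 0 1) 1 2) _ _) 0 1 = _
      rw [en_el, en_el, en_el]
      simp
    rw [show trans p y = trans p (Multiplicative.ofAdd y.toAdd) * lin p 1 by
      rw [map_one, mul_one]; rfl, en_trans, en_el] at h2
    simp at h2

/-- The fusion in `V` that no proper local subgroup sees. -/
theorem exists_bad_fusion : ∃ a h : ↥(qd p), a ∈ V p ∧ h * a * h⁻¹ ∈ V p ∧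
    ∀ x ∈ B p, x * a * x⁻¹ ≠ h * a * h⁻¹ := by
  refine ⟨trans p (Multiplicative.ofAdd ![1, 0]), lin p (Classical.GL2.lowSL 1), ⟨_, rfl⟩,
    ?_, fun x hx he => ?_⟩
  · rw [conj_trans]; exact ⟨_, rfl⟩
  · obtain ⟨A, c, rfl⟩ := exists_eq_mul p x
    rw [mem_B, en_trans] at hx
    simp at hx
    rw [conj_trans] at he
    have h1 : trans p (Multiplicative.ofAdd (A.1 *ᵥ ![1, 0])) =
        trans p (Multiplicative.ofAdd ((Classical.GL2.lowSL (1 : ZMod p)).1 *ᵥ ![1, 0])) := by
      rw [← he, ← conj_trans]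
      set a₀ := lin p A * trans p (Multiplicative.ofAdd ![1, 0]) * (lin p A)⁻¹ with ha
      have hV : a₀ ∈ V p := by rw [ha, conj_trans]; exact ⟨_, rfl⟩
      obtain ⟨d, hd⟩ := hV
      calc a₀ = trans p (Multiplicative.ofAdd c) * trans p d * (trans p (Multiplicative.ofAdd c))⁻¹ := by
            rw [← hd, ← map_inv, ← map_mul, ← map_mul, mul_comm (Multiplicative.ofAdd c),
              mul_inv_cancel_right]
        _ = _ := by rw [hd, ha]; group
    have h2 := congrFun (congrArg Multiplicative.toAdd (trans_injective p h1)) 1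
    simp [Classical.GL2.coe_lowSL, Matrix.mulVec, dotProduct, Fin.sum_univ_two, hx] at h2

universe u

variable {H : Type u} [Group H] [Finite H]

open Cfsg.Agent.Techniques.Functor

omit [Finite H] in
theorem exists_sylow (e : H ≃* ↥(qd p)) :
    ∃ S' : Sylow p H, (S' : Subgroup H).map e.toMonoidHom = S p := by
  refine ⟨⟨(S p).comap e.toMonoidHom, (isPGroup_S p).comap_of_injective _ e.injective,
    fun {Q} hQ hle => ?_⟩, Subgroup.map_comap_eq_self_of_surjective e.surjective _⟩
  have h1 := S_maximal p (hQ.map e.toMonoidHom) (by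
    rw [← Subgroup.map_comap_eq_self_of_surjective (f := e.toMonoidHom) e.surjective (S p)]
    exact Subgroup.map_mono hle)
  rw [← Subgroup.comap_map_eq_self_of_injective (f := e.toMonoidHom) e.injective Q, h1]

theorem normalizer_functor_le {W : ∀ (Q : Type u) [Group Q], Subgroup Q}
    (hW : IsCharPFunctor.{u} p W) (e : H ≃* ↥(qd p)) (S' : Sylow p H)
    (hS' : (S' : Subgroup H).map e.toMonoidHom = S p) :
    (Subgroup.normalizer ((inducedFunctor (G := H) W (S' : Subgroup H) : Subgroup H) : Set H)).map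
      e.toMonoidHom ≤ B p := by
  set X := (inducedFunctor (G := H) W (S' : Subgroup H)).map e.toMonoidHom with hX
  have hle : inducedFunctor (G := H) W (S' : Subgroup H) ≤ (S' : Subgroup H) :=
    Subgroup.map_subtype_le _
  refine le_trans ?_ (normalizer_le_B p (X := X) (hS' ▸ Subgroup.map_mono hle) ?_ ?_)
  · exact Subgroup.le_normalizer_map _
  · intro hb
    rw [hX, Subgroup.map_eq_bot_iff_of_injective _ e.injective, inducedFunctor,
      Subgroup.map_eq_bot_iff_of_injective _ (Subgroup.subtype_injective _)] at hb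
    refine hW.1 (S' : Subgroup H) S'.2 ?_ hb
    refine (Subgroup.nontrivial_iff_ne_bot _).2 fun h => ?_
    rw [h, Subgroup.map_bot] at hS'
    have := V_le_S p
    rw [← hS', le_bot_iff] at this
    exact V_ne_bot p this
  · intro φ
    let eS : ↥(S' : Subgroup H) ≃* ↥(S p) :=
      (e.subgroupMap (S' : Subgroup H)).trans (MulEquiv.subgroupCongr hS')
    have heS : ∀ y, ((eS y : ↥(S p)) : ↥(qd p)) = e y := fun y => rfl
    have hWX : (W ↥(S' : Subgroup H)).map eS.toMonoidHom = X.subgroupOf (S p) := by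
      ext y
      rw [Subgroup.mem_subgroupOf]
      constructor
      · rintro ⟨w, hw, rfl⟩
        exact ⟨w, ⟨w, hw, rfl⟩, rfl⟩
      · rintro ⟨_, ⟨w, hw, rfl⟩, hwy⟩
        exact ⟨w, hw, Subtype.ext hwy⟩
    rw [← hWX, Subgroup.map_map]
    have h1 := hW.2 _ _ S'.2 ((eS.trans φ).trans eS.symm)
    conv_rhs => rw [← h1, Subgroup.map_map]
    congr 1
    ext y
    simp

/-- No family of characteristic functors controls strong fusion in a copy of `Qd(p)`. -/
theorem not_familyControls (e : H ≃* ↥(qd p))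
    {𝓦 : Set (∀ (Q : Type u) [Group Q], Subgroup Q)} (h𝓦 : ∀ W ∈ 𝓦, IsCharPFunctor.{u} p W) :
    ¬ FamilyControlsStrongFusionIn p (induced 𝓦 H) ⊤ := by
  intro h
  obtain ⟨S', hS'⟩ := exists_sylow p e
  have hfc := (fc_iff h𝓦).1 h S'
  obtain ⟨a, g, ha, hga, hbad⟩ := exists_bad_fusion p
  have hmem : ∀ y, y ∈ V p → e.symm y ∈ (S' : Subgroup H) := fun y hy => by
    have h2 := V_le_S p hy
    rw [← hS'] at h2
    obtain ⟨w, hw, rfl⟩ := h2
    exact (e.symm_apply_apply w).symm ▸ hw
  have hr := hfc {e.symm a} (e.symm g) (Subgroup.mem_top _) (by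
    rintro y rfl
    exact hmem a ha) (by
    rintro _ ⟨y, rfl, rfl⟩
    show e.symm g * e.symm a * (e.symm g)⁻¹ ∈ (S' : Subgroup H)
    rw [← map_inv, ← map_mul, ← map_mul]
    exact hmem _ hga)
  have hr2 := hr.map e.toMonoidHom (M' := (B p : Set ↥(qd p))) (T' := S p) (fun z hz => by
    obtain ⟨w, ⟨W, hW, rfl⟩, -, hz⟩ := hz
    exact normalizer_functor_le p (h𝓦 W hW) e S' hS' ⟨z, hz, rfl⟩) hS'.le
  obtain ⟨x, hx, hxa⟩ := hr2.exists_mem
  have h3 := hxa a ⟨e.symm a, rfl, e.apply_symm_apply a⟩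
  simp at h3
  exact hbad x hx h3

/-- A characteristic functor does not control strong fusion in a copy of `Qd(p)`. -/
theorem exists_not_controls (e : H ≃* ↥(qd p)) {W : ∀ (Q : Type u) [Group Q], Subgroup Q}
    (hW : IsCharPFunctor.{u} p W) : ∃ T : Sylow p H,
      ¬ ControlsStrongFusion p (inducedFunctor (G := H) W (T : Subgroup H)) := by
  obtain ⟨S', hS'⟩ := exists_sylow p e
  refine ⟨S', ?_⟩
  rintro ⟨T, -, hT⟩
  obtain ⟨a, g, ha, hga, hbad⟩ := exists_bad_fusion p
  have hn : ((V p).comap e.toMonoidHom).Normal := (instVNormal p).comap _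
  have hVT : (V p).comap e.toMonoidHom ≤ (T : Subgroup H) :=
    ((isPGroup_V p).comap_of_injective _ e.injective).le_sylow_of_normal T
  have hmem : ∀ y, y ∈ V p → e.symm y ∈ (T : Subgroup H) := fun y hy => hVT (by
    rw [Subgroup.mem_comap]
    simpa using hy)
  obtain ⟨-, hc⟩ := hT {e.symm a} (by rintro y rfl; exact hmem a ha)
  obtain ⟨x, hx, hxa⟩ := hc (e.symm g) (by
    rintro _ ⟨y, rfl, rfl⟩
    show e.symm g * e.symm a * (e.symm g)⁻¹ ∈ (T : Subgroup H)
    rw [← map_inv, ← map_mul, ← map_mul]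
    exact hmem _ hga)
  have h3 := congrArg e (hxa (e.symm a) rfl)
  simp at h3
  exact hbad (e x) (normalizer_functor_le p hW e S' hS' ⟨x, hx, rfl⟩) h3.symm

end Cfsg.Agent.Techniques.SL2.QdFusion
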