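import Cfsg.Agent.Techniques.SL2.Main

/-!
# Every copy of `SL₂(p)` in `SL₂(F)` is the standard one up to a change of basis
-/

namespace Cfsg.Agent.Techniques.SL2.Natural

open Matrix
open scoped MatrixGroups
open Cfsg.Agent.Techniques.SL2.Basic

variable {F : Type*} [Field F] [Fintype F] {p : ℕ} [hp : Fact p.Prime] [CharP F p]

theorem exists_basis (hp2 : p ≠ 2) (φ : SL(2, ZMod p) →* SL(2, F)) (hφ : Function.Injective φ) :
    ∃ P : Matrix (Fin 2) (Fin 2) F, P.det ≠ 0 ∧
      ∀ M : SL(2, ZMod p), (φ M : Matrix (Fin 2) (Fin 2) F) * P =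
        P * (M : Matrix (Fin 2) (Fin 2) (ZMod p)).map (ZMod.castHom (dvd_refl p) F) := by
  classical
  set f := ZMod.castHom (dvd_refl p) F with hf
  set t : SL(2, ZMod p) := Classical.GL2.uniSL 1 with ht
  set s : SL(2, ZMod p) := Classical.GL2.lowSL 1 with hs
  have hone : Fact (1 < p) := ⟨hp.out.one_lt⟩
  have htp : ∀ x : SL(2, ZMod p), (mat (MonoidHom.id _) x).trace = 2 → x ^ p = 1 :=
    fun x hx => pow_eq_one_of_trace p (ι := MonoidHom.id _) Function.injective_id hx
  have htr : ∀ x : SL(2, ZMod p), (mat (MonoidHom.id _) x).trace = 2 →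
      (φ x : Matrix (Fin 2) (Fin 2) F).trace = 2 := fun x hx =>
    trace_of_pow (ι := φ) p (k := 1) (by rw [pow_one]; exact htp x hx)
  have hT := htr t (by simp [mat, ht, Classical.GL2.coe_uniSL, trace_fin_two]; norm_num)
  have hS := htr s (by simp [mat, hs, Classical.GL2.coe_lowSL, trace_fin_two]; norm_num)
  set T : Matrix (Fin 2) (Fin 2) F := mat φ t with hTdef
  set S : Matrix (Fin 2) (Fin 2) F := mat φ s with hSdef
  change T.trace = 2 at hT
  change S.trace = 2 at hS
  obtain ⟨v2, hv2, hSv⟩ : ∃ v : Fin 2 → F, v ≠ 0 ∧ S *ᵥ v = v := by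
    have hd : (S - 1).det = 0 := by
      have h1 := det_mat φ s
      rw [det_fin_two] at h1
      rw [trace_fin_two] at hS
      rw [det_fin_two]
      simp
      linear_combination h1 - hS
    obtain ⟨v, hv, hv'⟩ := Matrix.exists_mulVec_eq_zero_iff.2 hd
    rw [sub_mulVec, one_mulVec, sub_eq_zero] at hv'
    exact ⟨v, hv, hv'⟩
  set w : SL(2, ZMod p) := t * s⁻¹ * t with hw
  have hwmat : (w : Matrix (Fin 2) (Fin 2) (ZMod p)) = !![0, 1; -1, 0] := by
    have hsinv : s⁻¹ = Classical.GL2.lowSL (-1) := by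
      refine inv_eq_of_mul_eq_one_right (Classical.GL2.sl_ext ?_)
      simp [hs, Classical.GL2.coe_lowSL, one_fin_two]
    rw [hw, hsinv]
    simp [ht, Classical.GL2.coe_uniSL, Classical.GL2.coe_lowSL]
  have hw4 : (w * w) * (w * w) = 1 := by
    refine Classical.GL2.sl_ext ?_
    simp [hwmat, one_fin_two]
  have hw2 : w * w ≠ 1 := by
    intro h
    have h2 := congrFun (congrFun (congrArg Subtype.val h) 0) 0
    simp [hwmat] at h2
    exact two_ne_zero' (F := ZMod p) p hp2 (by linear_combination -h2)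
  have hφw : mat φ (w * w) = -1 := by
    have hc := cen_of_sq (ι := φ) p hφ hp2 hw4
    exact ((cen_iff φ _).1 hc).resolve_left fun h =>
      hw2 (mat_injective φ hφ (h.trans (mat_one φ).symm))
  have hW0 : (mat φ w).trace = 0 := by
    have h1 := sq_eq (ι := φ) w
    rw [← mat_mul, hφw] at h1
    have h2 : (mat φ w).trace • mat φ w = 0 := by
      rw [eq_comm, sub_eq_iff_eq_add] at h1
      rw [h1, neg_add_cancel]
    by_contra hne
    have h3 := congrArg Matrix.det ((smul_eq_zero.1 h2).resolve_left hne)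
    rw [det_mat] at h3
    simp at h3
  have hWS : mat φ w = T * mat φ s⁻¹ * T := by rw [hw, mat_mul, mat_mul]
  set v1 : Fin 2 → F := T *ᵥ v2 - v2 with hv1
  have hTT := sq_eq (ι := φ) t
  rw [← hTdef, hT] at hTT
  have hv1ne : v1 ≠ 0 := by
    intro h
    rw [hv1, sub_eq_zero] at h
    have hSi : mat φ s⁻¹ *ᵥ v2 = v2 := by
      conv_lhs => rw [← hSv, hSdef, mulVec_mulVec, ← mat_mul, inv_mul_cancel, mat_one, one_mulVec]
    have hW : mat φ w *ᵥ v2 = v2 := by
      rw [hWS, ← mulVec_mulVec, ← mulVec_mulVec, h, hSi, h]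
    have hd : (mat φ w - 1).det = 0 :=
      Matrix.exists_mulVec_eq_zero_iff.1 ⟨v2, hv2, by rw [sub_mulVec, hW, one_mulVec, sub_self]⟩
    have h1 := det_mat φ w
    rw [det_fin_two] at h1 hd
    rw [trace_fin_two] at hW0
    simp at hd
    exact two_ne_zero' (F := F) p hp2 (by linear_combination hd - h1 + hW0)
  have hTv1 : T *ᵥ v1 = v1 := by
    rw [hv1, mulVec_sub, mulVec_mulVec, hTT, sub_mulVec, one_mulVec, smul_mulVec, two_smul]
    abel
  set P : Matrix (Fin 2) (Fin 2) F := !![v1 0, v2 0; v1 1, v2 1] with hP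
  have hPd : P.det ≠ 0 := by
    rw [hP, det_fin_two_of]
    intro hd
    -- then `v1` is a multiple of `v2`
    obtain ⟨c, hc⟩ : ∃ c : F, v1 = c • v2 := by
      by_cases h0 : v2 0 = 0
      · have h1 : v2 1 ≠ 0 := fun h1 => hv2 (funext fun i => by fin_cases i <;> assumption)
        refine ⟨v1 1 / v2 1, funext fun i => ?_⟩
        fin_cases i
        · have : v1 0 * v2 1 = 0 := by rw [h0] at hd; linear_combination hd
          simp [(mul_eq_zero.1 this).resolve_right h1, h0]
        · simp [h1]
      · refine ⟨v1 0 / v2 0, funext fun i => ?_⟩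
        fin_cases i
        · simp [h0]
        · simp
          field_simp
          linear_combination -hd
    have h1 : T *ᵥ v2 = (1 + c) • v2 := by
      rw [add_smul, one_smul, ← hc, hv1]; abel
    have h2 := hTv1
    rw [hc, mulVec_smul, h1, smul_smul] at h2
    have h3 : c * c = 0 := by
      have := sub_eq_zero.2 h2
      rw [← sub_smul] at this
      have := (smul_eq_zero.1 this).resolve_right hv2
      linear_combination this
    exact hv1ne (by rw [hc, mul_self_eq_zero.1 h3, zero_smul])
  have hPu : IsUnit P.det := isUnit_iff_ne_zero.2 hPd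
  have hcol : ∀ (A B : Matrix (Fin 2) (Fin 2) F) (x y : Fin 2 → F),
      B = !![x 0, y 0; x 1, y 1] → A * B = !![(A *ᵥ x) 0, (A *ᵥ y) 0; (A *ᵥ x) 1, (A *ᵥ y) 1] := by
    intro A B x y hB
    rw [hB]
    ext i j
    fin_cases i <;> fin_cases j <;>
      simp [Matrix.mul_apply, Matrix.mulVec, dotProduct, Fin.sum_univ_two]
  have hT' : T * P = P * !![1, 1; 0, 1] := by
    have hTv2 : T *ᵥ v2 = v1 + v2 := by rw [hv1]; abel
    rw [hcol T P v1 v2 hP, hTv1, hTv2, hP]
    simp
  obtain ⟨y, hS'⟩ : ∃ y : F, S * P = P * !![1, 0; y, 1] := by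
    set N := P⁻¹ * S * P with hN
    have hSP : S * P = P * N := by
      rw [hN, ← Matrix.mul_assoc, ← Matrix.mul_assoc, mul_nonsing_inv _ hPu, Matrix.one_mul]
    have hcol2 : N *ᵥ ![0, 1] = ![0, 1] := by
      have hP2 : P *ᵥ ![0, 1] = v2 := by
        funext i; fin_cases i <;> simp [hP, Matrix.mulVec, dotProduct, Fin.sum_univ_two]
      rw [hN, ← mulVec_mulVec, hP2, ← mulVec_mulVec, hSv]
      conv_lhs => rw [← hP2, mulVec_mulVec, nonsing_inv_mul _ hPu, one_mulVec]
    have e0 := congrFun hcol2 0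
    have e1 := congrFun hcol2 1
    simp [Matrix.mulVec, dotProduct, Fin.sum_univ_two] at e0 e1
    have htrN : N.trace = 2 := by
      rw [hN, Matrix.trace_mul_cycle, mul_nonsing_inv _ hPu, Matrix.one_mul, hS]
    rw [trace_fin_two, e1] at htrN
    refine ⟨N 1 0, hSP.trans ?_⟩
    congr 1
    ext i j
    fin_cases i <;> fin_cases j <;> simp [e0, e1]
    linear_combination htrN
  have hSi' : mat φ s⁻¹ * P = P * !![1, 0; -y, 1] := by
    rw [mat_inv, ← hSdef, hS, sub_mul, smul_mul, Matrix.one_mul, hS', ← Matrix.mul_one (_ • P),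
      Matrix.smul_mul, ← Matrix.mul_smul, ← mul_sub]
    congr 1
    ext i j
    fin_cases i <;> fin_cases j <;> simp [one_fin_two] <;> ring
  have hy : y = 1 := by
    have hWP : mat φ w * P = P * (!![1, 1; 0, 1] * !![1, 0; -y, 1] * !![1, 1; 0, 1]) := by
      calc mat φ w * P = T * (mat φ s⁻¹ * (T * P)) := by rw [hWS]; simp [Matrix.mul_assoc]
        _ = T * ((mat φ s⁻¹ * P) * !![1, 1; 0, 1]) := by rw [hT']; simp [Matrix.mul_assoc]
        _ = (T * P) * (!![1, 0; -y, 1] * !![1, 1; 0, 1]) := by rw [hSi']; simp [Matrix.mul_assoc]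
        _ = _ := by rw [hT']; simp only [Matrix.mul_assoc]
    have h2 := (Cfsg.Agent.GL2.Classes.similar_trace_det hPd hWP).1
    rw [hW0] at h2
    simp [trace_fin_two] at h2
    have h3 : (2 : F) * (1 - y) = 0 := by linear_combination -h2
    exact (sub_eq_zero.1 ((mul_eq_zero.1 h3).resolve_left (two_ne_zero' p hp2))).symm
  subst hy
  refine ⟨P, hPd, ?_⟩
  let E : Subgroup SL(2, ZMod p) :=
    { carrier := {M | mat φ M * P = P * (M : Matrix (Fin 2) (Fin 2) (ZMod p)).map f}
      mul_mem' := fun {M N} hM hN => by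
        simp only [Set.mem_setOf_eq] at hM hN ⊢
        rw [mat_mul, Matrix.mul_assoc, hN, ← Matrix.mul_assoc, hM, Matrix.mul_assoc,
          ← Matrix.map_mul, ← Matrix.SpecialLinearGroup.coe_mul]
      one_mem' := by simp [mat_one]
      inv_mem' := fun {M} hM => by
        simp only [Set.mem_setOf_eq] at hM ⊢
        have h1 : mat φ M⁻¹ * (mat φ M * P) = P := by
          rw [← Matrix.mul_assoc, ← mat_mul, inv_mul_cancel, mat_one, Matrix.one_mul]
        rw [hM, ← Matrix.mul_assoc] at h1
        calc mat φ M⁻¹ * P = mat φ M⁻¹ * P * ((M : Matrix (Fin 2) (Fin 2) (ZMod p)).map f *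
              ((M⁻¹ : SL(2, ZMod p)) : Matrix (Fin 2) (Fin 2) (ZMod p)).map f) := by
              rw [← Matrix.map_mul, ← Matrix.SpecialLinearGroup.coe_mul, mul_inv_cancel]
              simp
          _ = P * ((M⁻¹ : SL(2, ZMod p)) : Matrix (Fin 2) (Fin 2) (ZMod p)).map f := by
              rw [← Matrix.mul_assoc, h1] }
  have hE : E = ⊤ := by
    refine Classical.Linear.eq_top_of_transvection_mem _ fun i j hij c => ?_
    obtain ⟨n, rfl⟩ : ∃ n : ℕ, c = n := ⟨c.val, (ZMod.natCast_rightInverse c).symm⟩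
    have hpow : ∀ (x : SL(2, ZMod p)) (n : ℕ), x ∈ E → x ^ n ∈ E := fun x n hx => pow_mem hx n
    have ht' : t ∈ E := by
      show T * P = P * _
      rw [hT']; congr 1
      ext i j
      fin_cases i <;> fin_cases j <;> simp [ht, Classical.GL2.coe_uniSL]
    have hs' : s ∈ E := by
      show S * P = P * _
      rw [hS']; congr 1
      ext i j
      fin_cases i <;> fin_cases j <;> simp [hs, Classical.GL2.coe_lowSL]
    have key : Matrix.SpecialLinearGroup.transvection hij (n : ZMod p) = t ^ n ∨
        Matrix.SpecialLinearGroup.transvection hij (n : ZMod p) = s ^ n := by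
      have hu : ∀ n : ℕ, t ^ n = Classical.GL2.uniSL (n : ZMod p) := by
        intro n
        induction n with
        | zero => simp [Classical.GL2.uniSL_zero]
        | succ n ih => rw [pow_succ, ih, ht, Classical.GL2.uniSL_mul]; push_cast; ring_nf
      have hl : ∀ n : ℕ, s ^ n = Classical.GL2.lowSL (n : ZMod p) := by
        intro n
        induction n with
        | zero =>
          refine Classical.GL2.sl_ext ?_
          simp [Classical.GL2.coe_lowSL, one_fin_two]
        | succ n ih =>
          rw [pow_succ, ih]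
          refine Classical.GL2.sl_ext ?_
          simp [hs, Classical.GL2.coe_lowSL]
      fin_cases i <;> fin_cases j <;> try exact absurd rfl hij
      · left
        rw [hu]
        refine Classical.GL2.sl_ext ?_
        ext i j
        fin_cases i <;> fin_cases j <;>
          simp [Matrix.SpecialLinearGroup.transvection_coe, Classical.GL2.coe_uniSL]
      · right
        rw [hl]
        refine Classical.GL2.sl_ext ?_
        ext i j
        fin_cases i <;> fin_cases j <;>
          simp [Matrix.SpecialLinearGroup.transvection_coe, Classical.GL2.coe_lowSL]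
    rcases key with h | h <;> rw [h]
    exacts [hpow _ _ ht', hpow _ _ hs']
  intro M
  have : M ∈ E := hE ▸ Subgroup.mem_top M
  exact this

end Cfsg.Agent.Techniques.SL2.Natural
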