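import Cfsg.Agent.Techniques.SL2.Dickson

/-!
# Subgroups of `SL₂` with several Sylow subgroups contain `SL₂(p)`
-/

namespace Cfsg.Agent.Techniques.SL2.Main

open scoped MatrixGroups Pointwise
open Cfsg.Agent.Techniques.SL2.Basic
open Cfsg.Agent.Techniques.SL2.Transitive (HasSL2)

variable {F : Type*} [Field F] [Fintype F] (p : ℕ) [hp : Fact p.Prime] [CharP F p]

/-- The central involution. -/
def negOne (F : Type*) [Field F] : SL(2, F) := ⟨-1, by simp [Matrix.det_fin_two]⟩

theorem negOne_comm (g : SL(2, F)) : g * negOne F = negOne F * g := by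
  refine Classical.GL2.sl_ext ?_
  show (g : Matrix (Fin 2) (Fin 2) F) * (-1) = (-1) * (g : Matrix (Fin 2) (Fin 2) F)
  simp

theorem negOne_sq : negOne F * negOne F = 1 := by
  refine Classical.GL2.sl_ext ?_
  show (-1 : Matrix (Fin 2) (Fin 2) F) * (-1) = 1
  simp

theorem negOne_ne_one (hp2 : p ≠ 2) : negOne F ≠ 1 := by
  intro h
  have h2 := congrFun (congrFun (congrArg Subtype.val h) 0) 0
  simp [negOne] at h2
  exact two_ne_zero' (F := F) p hp2 (by linear_combination -h2)

theorem hasSL2_of_negOne_mem (hp2 : p ≠ 2) {H : Subgroup SL(2, F)} (hneg : negOne F ∈ H)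
    (hr : 1 < Nat.card (Sylow p H)) : HasSL2 p H := by
  classical
  have : Fintype H := Fintype.ofFinite _
  let P : Sylow p H := default
  obtain ⟨S, hS⟩ := (P.isPGroup'.map H.subtype).exists_le_sylow
  obtain ⟨g, rfl⟩ := Classical.GL2.exists_eq_conj_U p S
  let ι : H →* SL(2, F) := (MulAut.conj g⁻¹).toMonoidHom.comp H.subtype
  have hι : Function.Injective ι := (MulAut.conj g⁻¹).injective.comp Subtype.coe_injective
  have hP : ∀ x ∈ P, mat ι x 1 0 = 0 ∧ mat ι x 0 0 = 1 := by
    intro x hx
    have h2 : (x : SL(2, F)) ∈ ((g • Classical.GL2.sylowSL p : Sylow p SL(2, F)) :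
        Subgroup SL(2, F)) := hS (Subgroup.mem_map_of_mem _ hx)
    rw [Sylow.coe_subgroup_smul, Subgroup.mem_pointwise_smul_iff_inv_smul_mem,
      Classical.GL2.coe_sylowSL] at h2
    obtain ⟨c, hc⟩ := h2
    have e : mat ι x = !![1, c.toAdd; 0, 1] := by
      rw [← Classical.GL2.coe_uniHom, hc]
      simp [mat, ι, MulAut.smul_def]
    simp [e]
  have hz : Cen ι ⟨negOne F, hneg⟩ := by
    refine (cen_iff ι _).2 (Or.inr ?_)
    have e : ι ⟨negOne F, hneg⟩ = negOne F := by
      show g⁻¹ * negOne F * g⁻¹⁻¹ = negOne F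
      rw [inv_inv, negOne_comm, mul_assoc, inv_mul_cancel, mul_one]
    rw [mat, e]
    rfl
  exact Dickson.hasSL2_of_normalized (ι := ι) p hι hp2 hz
    (fun h => negOne_ne_one p hp2 (congrArg Subtype.val h)) P hP hr

/-- Dickson's lemma: a subgroup of `SL₂(F)` with more than one Sylow `p`-subgroup contains a copy
of `SL₂(p)`. -/
theorem hasSL2 (hp2 : p ≠ 2) (H : Subgroup SL(2, F)) (hr : 1 < Nat.card (Sylow p H)) :
    HasSL2 p H := by
  set H' := H ⊔ Subgroup.zpowers (negOne F) with hH'
  have hle : H ≤ H' := le_sup_left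
  have hneg : negOne F ∈ H' := le_sup_right (a := H) (Subgroup.mem_zpowers _)
  have hr' : 1 < Nat.card (Sylow p H') := by
    by_contra h
    have : Subsingleton (Sylow p H') := Finite.card_le_one_iff_subsingleton.1 (not_lt.1 h)
    obtain ⟨P₁, P₂, hne⟩ := (Finite.one_lt_card_iff_nontrivial.1 hr).exists_pair_ne
    let Q : Sylow p H' := default
    have key : ∀ P : Sylow p H, (P : Subgroup H).map (Subgroup.inclusion hle) ≤ Q := fun P => by
      obtain ⟨R, hR⟩ := (P.isPGroup'.map (Subgroup.inclusion hle)).exists_le_sylow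
      exact Subsingleton.elim R Q ▸ hR
    have hpg : IsPGroup p ((P₁ : Subgroup H) ⊔ P₂ : Subgroup H) := by
      refine (Q.isPGroup'.comap_of_injective _ (Subgroup.inclusion_injective hle)).to_le ?_
      rw [sup_le_iff, ← Subgroup.map_le_iff_le_comap, ← Subgroup.map_le_iff_le_comap]
      exact ⟨key P₁, key P₂⟩
    exact hne (Sylow.ext ((P₁.is_maximal' hpg le_sup_left).symm.trans
      (P₂.is_maximal' hpg le_sup_right)))
  obtain ⟨φ, hφ⟩ := hasSL2_of_negOne_mem p hp2 hneg hr'
  have hnorm : H' = H ⊔ Subgroup.zpowers (negOne F) := rfl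
  have hmem : ∀ x ∈ H', x ∈ H ∨ x * negOne F ∈ H := by
    intro x hx
    refine Subgroup.closure_induction (k := (H : Set SL(2, F)) ∪ {negOne F})
      (p := fun y _ => y ∈ H ∨ y * negOne F ∈ H) ?_ ?_ ?_ ?_ ?_
    · rintro y (hy | hy)
      · exact Or.inl hy
      · exact Or.inr (by rw [hy, negOne_sq]; exact one_mem _)
    · exact Or.inl (one_mem _)
    · rintro a b - - ha hb
      rcases ha with ha | ha <;> rcases hb with hb | hb
      · exact Or.inl (mul_mem ha hb)
      · exact Or.inr (by rw [mul_assoc]; exact mul_mem ha hb)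
      · refine Or.inr ?_
        rw [mul_assoc, negOne_comm b, ← mul_assoc]
        exact mul_mem ha hb
      · refine Or.inl ?_
        have e : a * b = (a * negOne F) * (b * negOne F) := by
          rw [mul_assoc a, ← mul_assoc (negOne F) b, ← negOne_comm b, mul_assoc b, negOne_sq,
            mul_one]
        exact e ▸ mul_mem ha hb
    · rintro a - ha
      rcases ha with ha | ha
      · exact Or.inl (inv_mem ha)
      · refine Or.inr ?_
        have h2 := inv_mem ha
        have hinv : (negOne F)⁻¹ = negOne F := inv_eq_of_mul_eq_one_right negOne_sq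
        rwa [_root_.mul_inv_rev, hinv, ← negOne_comm] at h2
    · refine (show H' ≤ Subgroup.closure _ from ?_) hx
      refine sup_le (fun y hy => Subgroup.subset_closure (Or.inl hy)) ?_
      exact Subgroup.zpowers_le.2 (Subgroup.subset_closure (Or.inr rfl))
  have htr : ∀ x : H', x ^ p = 1 → (x : SL(2, F)) ∈ H := by
    intro x hx
    rcases hmem _ x.2 with h | h
    · exact h
    · have hz : negOne F ∈ H := by
        have hc : Commute (x : SL(2, F)) (negOne F) := negOne_comm _
        have h2 := pow_mem h p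
        rw [hc.mul_pow, show (x : SL(2, F)) ^ p = 1 from congrArg Subtype.val hx, one_mul] at h2
        obtain ⟨m, hm⟩ := hp.out.odd_of_ne_two hp2
        rwa [hm, pow_succ, pow_mul, pow_two, negOne_sq, one_pow, one_mul] at h2
      have := mul_mem h hz
      rwa [mul_assoc, negOne_sq, mul_one] at this
  have hrange : (H.subgroupOf H').comap φ = ⊤ := by
    refine Classical.Linear.eq_top_of_transvection_mem _ fun i j hij c => ?_
    refine Subgroup.mem_comap.2 (Subgroup.mem_subgroupOf.2 (htr _ ?_))
    rw [← map_pow, show (Matrix.SpecialLinearGroup.transvection hij c) ^ p = 1 from ?_, map_one]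
    refine Classical.GL2.sl_ext ?_
    rw [Matrix.SpecialLinearGroup.coe_pow, Matrix.SpecialLinearGroup.coe_one,
      Matrix.SpecialLinearGroup.transvection_coe]
    rw [add_pow_char_of_commute p (Commute.one_left _), one_pow]
    have : (Matrix.single i j c) ^ p = 0 := by
      have h2 : (Matrix.single i j c) ^ 2 = 0 := by
        rw [pow_two]
        exact Matrix.single_mul_single_of_ne c i j i hij.symm c
      exact pow_eq_zero_of_le hp.out.two_le h2
    rw [this, add_zero]
  have hmem' : ∀ M, φ M ∈ H.subgroupOf H' := fun M => by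
    have : M ∈ (H.subgroupOf H').comap φ := hrange ▸ Subgroup.mem_top M
    exact this
  refine ⟨(Subgroup.subgroupOfEquivOfLe hle).toMonoidHom.comp (φ.codRestrict _ hmem'), ?_⟩
  exact (Subgroup.subgroupOfEquivOfLe hle).injective.comp
    fun a b h => hφ (congrArg Subtype.val h)

theorem exists_le_equiv (hp2 : p ≠ 2) (H : Subgroup SL(2, F)) (hr : 1 < Nat.card (Sylow p H)) :
    ∃ K : Subgroup SL(2, F), K ≤ H ∧ Nonempty (K ≃* SL(2, ZMod p)) := by
  obtain ⟨φ, hφ⟩ := hasSL2 p hp2 H hr
  exact ⟨(H.subtype.comp φ).range, by rintro _ ⟨x, rfl⟩; exact (φ x).2,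
    ⟨(MonoidHom.ofInjective (Subtype.coe_injective.comp hφ)).symm⟩⟩

end Cfsg.Agent.Techniques.SL2.Main
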