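import Cfsg.Agent.Techniques.SL2.Qd
import Cfsg.Agent.Techniques.KInf.Stability

/-!
# Failure of stability involves `Qd(p)` and `SL₂(p)`
-/

namespace Cfsg.Agent.Techniques.SL2.Nonstable

open Subgroup Cfsg Cfsg.Agent.Techniques.KInf
open scoped MatrixGroups commutatorElement

variable {p : ℕ} [hp : Fact p.Prime]

/-- An unstable configuration gives a bad pair on a section of the normaliser. -/
theorem exists_bad {G : Type*} [Group G] [Finite G] (hns : ¬ IsNormalizerPStable p G) :
    ∃ P : Subgroup G, IsPGroup p P ∧ P ≠ ⊥ ∧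
      ∃ (V : Subgroup ↥(normalizer (P : Set G))) (_ : V.Normal)
        (W : Subgroup (↥(normalizer (P : Set G)) ⧸ V))
        (a b : ↥(normalizer (P : Set G)) ⧸ V), IsElementaryAbelian p W ∧
          a ∈ normalizer (W : Set (↥(normalizer (P : Set G)) ⧸ V)) ∧
          b ∈ normalizer (W : Set (↥(normalizer (P : Set G)) ⧸ V)) ∧
          PLocal.Quadratic.Quad W a ∧ PLocal.Quadratic.Quad W b ∧
          PLocal.Quadratic.BadPair p W a b := by
  simp only [IsNormalizerPStable, not_forall] at hns
  obtain ⟨P, hP, g, hg, hq, hna⟩ := hns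
  set N := normalizer (P : Set G) with hN
  set P' := P.subgroupOf N
  have hPN : P ≤ N := le_normalizer
  have hP'p : IsPGroup p P' := hP.comap_of_injective N.subtype N.subtype_injective
  have : P'.Normal := normal_in_normalizer
  have hq' : ⁅⁅P', zpowers (⟨g, hg⟩ : N)⁆, zpowers (⟨g, hg⟩ : N)⁆ = ⊥ := by
    rw [← map_eq_bot_iff_of_injective _ N.subtype_injective, map_commutator, map_commutator,
      MonoidHom.map_zpowers, map_subgroupOf_eq_of_le hPN]
    exact hq
  have hC : centralizer (P' : Set N) = (centralizer (P : Set G)).subgroupOf N := by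
    ext x
    rw [mem_centralizer_iff, mem_subgroupOf, mem_centralizer_iff]
    exact ⟨fun h z hz => congrArg Subtype.val (h ⟨z, hPN hz⟩ hz),
      fun h z hz => Subtype.ext (h z hz)⟩
  have hst : (⟨g, hg⟩ : N) ∉ stabilizes P' := by
    intro hs
    set π := QuotientGroup.mk' ((centralizer (P : Set G)).subgroupOf N) with hπ
    have himg : IsPGroup p ((stabilizes P').map π) := by
      rintro ⟨_, x, hx, rfl⟩
      obtain ⟨k, hk⟩ := exists_pow_coprime (p := p) x
      refine ⟨k, Subtype.ext ?_⟩
      rw [SubmonoidClass.coe_pow, OneMemClass.coe_one, ← map_pow, QuotientGroup.mk'_apply,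
        QuotientGroup.eq_one_iff, ← hC]
      exact mem_centralizer_of_stabilizes hP'p (pow_mem hx _) hk
    have : ((stabilizes P').map π).Normal :=
      (stabilizes_normal P').map π (QuotientGroup.mk'_surjective _)
    exact hna (Cfsg.Agent.PLocal.Cores.le_pCore himg (mem_map_of_mem π hs))
  obtain ⟨U, V, hch, hU, hne⟩ := not_stabilizes hst
  refine ⟨P, hP, ?_, ?_⟩
  · intro hbot
    have hU' : U = ⊥ := le_bot_iff.1 (hU.trans (le_of_eq (by
      show P.subgroupOf N = ⊥
      rw [hbot, bot_subgroupOf])))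
    exact (hch.1.trans_le hU'.le).ne_bot rfl
  have hUn : U.Normal := hch.2.1
  have hVn : V.Normal := hch.2.2.1
  set π := QuotientGroup.mk' V with hπ
  set W := U.map π with hW
  have hWn : W.Normal := hUn.map π (QuotientGroup.mk'_surjective V)
  have hUQ : U ≤ pCore p N := Cfsg.Agent.PLocal.Cores.le_pCore hP'p |>.trans' hU
  have hWel : IsElementaryAbelian p W := by
    refine PLocal.ThompsonSubgroup.isElementaryAbelian_iff.mpr ⟨?_, ?_⟩
    · rintro _ ⟨x, hx, rfl⟩ _ ⟨y, hy, rfl⟩
      rw [← commutatorElement_eq_one_iff_mul_comm, ← map_commutatorElement]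
      exact (QuotientGroup.eq_one_iff _).mpr
        ((commutator_mono le_rfl hUQ).trans (Functor.chief_commutator_le hch hUQ)
          (commutator_mem_commutator hx hy))
    · rintro _ ⟨x, hx, rfl⟩
      rw [← map_pow]
      exact (QuotientGroup.eq_one_iff _).mpr (Functor.chief_pow_mem hch (hP'p.to_le hU) hx)
  set g' := π ⟨g, hg⟩
  have hgW : g' ∈ normalizer (W : Set (N ⧸ V)) := le_normalizer_of_normal (mem_top _)
  have hgq : PLocal.Quadratic.Quad W g' := by
    show ⁅⁅W, zpowers g'⁆, zpowers g'⁆ = ⊥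
    rw [hW, ← MonoidHom.map_zpowers, ← map_commutator, ← map_commutator, Subgroup.map_eq_bot_iff,
      QuotientGroup.ker_mk']
    exact (commutator_mono (commutator_mono hU le_rfl) le_rfl).trans (hq'.le.trans bot_le)
  have hWp : IsPGroup p W := (hP'p.to_le hU).map π
  have hWne : W ≠ ⊥ := fun h => by
    rw [hW, Subgroup.map_eq_bot_iff, QuotientGroup.ker_mk'] at h
    exact hch.1.not_ge h
  have hmin : ∀ M : Subgroup (N ⧸ V), M.Normal → M ≤ W → M = ⊥ ∨ M = W := fun M hM hle => by
    have hsurj := QuotientGroup.mk'_surjective V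
    have hker : π.ker = V := QuotientGroup.ker_mk' V
    have hVM : V ≤ M.comap π := hker.ge.trans (ker_le_comap π M)
    have hle' : M.comap π ≤ U := (comap_mono hle).trans_eq
      ((comap_map_eq _ _).trans (by rw [hker, sup_eq_left.mpr hch.1.le]))
    rcases hch.2.2.2 (M.comap π) (hM.comap π) hVM hle' with e | e
    · left; rw [← map_comap_eq_self_of_surjective hsurj M, e, QuotientGroup.map_mk'_self]
    · right; rw [← map_comap_eq_self_of_surjective hsurj M, e]
  obtain ⟨h, hhN, hbad⟩ := PLocal.Quadratic.exists_bad_pair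
    (H := normalizer (W : Set (N ⧸ V))) hWel le_rfl hgW hgq (fun hm => by
      have hc := centralizes_of_mem_pCore hWp hWne hmin hgW hm
      refine hne ?_
      rw [← QuotientGroup.ker_mk' V, ← Subgroup.map_eq_bot_iff, map_commutator,
        MonoidHom.map_zpowers, commutator_comm, commutator_eq_bot_iff_le_centralizer]
      exact zpowers_le.mpr hc)
  exact ⟨V, hVn, W, g', h * g' * h⁻¹, hWel, hgW, mul_mem (mul_mem hhN hgW) (inv_mem hhN), hgq,
    PLocal.Quadratic.quad_conj h hhN hgq, hbad⟩

/-- An unstable group involves `Qd(p)` and `SL₂(p)` in a `p`-local subgroup. -/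
theorem involves_of_not_stable {G : Type*} [Group G] [Finite G] (hp2 : p ≠ 2)
    (hns : ¬ IsNormalizerPStable p G) :
    ∃ P : Subgroup G, IsPGroup p P ∧ P ≠ ⊥ ∧
      Involves ↥(qd p) ↥(normalizer (P : Set G)) ∧
      Involves SL(2, ZMod p) ↥(normalizer (P : Set G)) := by
  obtain ⟨P, hP, hne, V, hV, W, a, b, hW, ha, hb, hqa, hqb, hbad⟩ := exists_bad hns
  refine ⟨P, hP, hne, ?_, ?_⟩
  · have hQ := Qd.involves_qd_of_bad_pair hp2 hW ha hb hqa hqb hbad
    refine Qd.involves_trans (L := (⊤ : Subgroup ↥(normalizer (P : Set G))))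
      ((QuotientGroup.mk' V).comp (⊤ : Subgroup ↥(normalizer (P : Set G))).subtype) ?_ hQ
    intro y
    obtain ⟨x, rfl⟩ := QuotientGroup.mk'_surjective V y
    exact ⟨⟨x, mem_top x⟩, rfl⟩
  · obtain ⟨K, L, hL, -, -, ⟨e⟩⟩ := Pairs.exists_section hp2 hW ha hb hqa hqb hbad
    have hQ : Involves SL(2, ZMod p) (↥(normalizer (P : Set G)) ⧸ V) := ⟨K, L, hL, ⟨e⟩⟩
    refine Qd.involves_trans (L := (⊤ : Subgroup ↥(normalizer (P : Set G))))
      ((QuotientGroup.mk' V).comp (⊤ : Subgroup ↥(normalizer (P : Set G))).subtype) ?_ hQ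
    intro y
    obtain ⟨x, rfl⟩ := QuotientGroup.mk'_surjective V y
    exact ⟨⟨x, mem_top x⟩, rfl⟩

/-- A `p`-local subgroup of a section is covered by a `p`-local subgroup. -/
theorem exists_local_cover {G : Type*} [Group G] [Finite G] {K : Subgroup G} {H : Type*}
    [Group H] (f : K →* H) (hf : Function.Surjective f) {P : Subgroup H} (hP : IsPGroup p P)
    (hne : P ≠ ⊥) :
    ∃ S : Subgroup G, IsPGroup p S ∧ S ≠ ⊥ ∧
      ∃ (L : Subgroup ↥(normalizer (S : Set G))) (g : L →* ↥(normalizer (P : Set H))),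
        Function.Surjective g := by
  have : Finite H := Finite.of_surjective f hf
  set M := P.comap f with hM
  obtain ⟨T⟩ := (inferInstance : Nonempty (Sylow p M))
  set T' := (T : Subgroup M).map M.subtype with hT'
  set S := T'.map K.subtype with hS
  have hTp : IsPGroup p T' := T.isPGroup'.map _
  have hfT : T'.map f = P := by
    refine le_antisymm (map_le_iff_le_comap.2 (map_subtype_le _)) ?_
    let r : M →* P := f.subgroupComap P
    have hr : Function.Surjective r := MonoidHom.subgroupComap_surjective_of_surjective f P hf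
    have e : (T.mapSurjective hr : Subgroup P) = ⊤ :=
      ((T.mapSurjective hr).is_maximal' (hP.to_subgroup ⊤) le_top).symm
    intro x hx
    have hx' : (⟨x, hx⟩ : P) ∈ (T.mapSurjective hr : Subgroup P) := e ▸ mem_top _
    obtain ⟨y, hy, hye⟩ := hx'
    exact ⟨y, ⟨y, hy, rfl⟩, congrArg Subtype.val hye⟩
  refine ⟨S, hTp.map _, ?_, ?_⟩
  · intro h
    refine hne ?_
    rw [hS, map_eq_bot_iff_of_injective _ K.subtype_injective] at h
    rw [← hfT, h, Subgroup.map_bot]
  -- Frattini
  set N' := (normalizer (P : Set H)).comap f with hN'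
  have hMN : M ≤ N' := comap_mono le_normalizer
  have hnorm : (M.subgroupOf N').Normal := by
    refine ⟨fun m hm x => ?_⟩
    rw [mem_subgroupOf, hM, mem_comap] at hm ⊢
    simp only [Subgroup.coe_mul, Subgroup.coe_inv, map_mul, map_inv]
    exact (mem_normalizer_iff.1 x.2 _).1 hm
  set L₀ := normalizer (T' : Set K) ⊓ N' with hL₀
  have hcover : ∀ y : ↥(normalizer (P : Set H)), ∃ x ∈ L₀, f x = y := by
    intro y
    obtain ⟨x, hx⟩ := hf y
    have hxN : x ∈ N' := by rw [hN', mem_comap, hx]; exact y.2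
    let eM : ↥(M.subgroupOf N') ≃* M := subgroupOfEquivOfLe hMN
    let T₂ : Sylow p ↥(M.subgroupOf N') :=
      T.comapOfInjective eM.toMonoidHom eM.injective (by
        rw [MonoidHom.range_eq_top.2 eM.surjective]; exact le_top)
    have hfr := Sylow.normalizer_sup_eq_top T₂
    have hx2 : (⟨x, hxN⟩ : N') ∈
        normalizer (((T₂ : Subgroup ↥(M.subgroupOf N')).map (M.subgroupOf N').subtype :
          Subgroup N') : Set N') ⊔ M.subgroupOf N' := hfr ▸ mem_top _
    rw [Subgroup.mem_sup_of_normal_right] at hx2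
    obtain ⟨n, hn, m, hm, hnm⟩ := hx2
    have hmapT : (((T₂ : Subgroup ↥(M.subgroupOf N')).map (M.subgroupOf N').subtype).map
        N'.subtype) = T' := by
      ext w
      constructor
      · rintro ⟨_, ⟨u, hu, rfl⟩, rfl⟩
        exact ⟨eM u, hu, rfl⟩
      · rintro ⟨u, hu, rfl⟩
        refine ⟨_, ⟨eM.symm u, ?_, rfl⟩, rfl⟩
        show eM (eM.symm u) ∈ T
        rw [eM.apply_symm_apply]; exact hu
    have hnT : (n : K) ∈ normalizer (T' : Set K) := by
      rw [← hmapT]
      exact le_normalizer_map N'.subtype (mem_map_of_mem _ hn)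
    have hfm : f (m : K) ∈ P := hm
    rw [← hfT] at hfm
    obtain ⟨t, ht, hte⟩ := hfm
    have htN : t ∈ N' := hMN (map_subtype_le _ ht)
    refine ⟨(n : K) * t, mem_inf.2 ⟨mul_mem hnT (le_normalizer ht), mul_mem n.2 htN⟩, ?_⟩
    rw [map_mul, hte, ← map_mul, ← hx]
    exact congrArg f (congrArg Subtype.val hnm)
  have hLS : L₀.map K.subtype ≤ normalizer (S : Set G) :=
    (map_mono inf_le_left).trans (le_normalizer_map _)
  set L : Subgroup ↥(normalizer (S : Set G)) := (L₀.map K.subtype).subgroupOf _ with hLdef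
  let e₁ : L ≃* L₀ :=
    (subgroupOfEquivOfLe hLS).trans (L₀.equivMapOfInjective K.subtype K.subtype_injective).symm
  let g₀ : L₀ →* ↥(normalizer (P : Set H)) :=
    (f.comp L₀.subtype).codRestrict _ (fun x => (mem_inf.1 x.2).2)
  refine ⟨L, g₀.comp e₁.toMonoidHom, ?_⟩
  refine Function.Surjective.comp (g := g₀) ?_ e₁.surjective
  intro y
  obtain ⟨x, hx, hxy⟩ := hcover y
  exact ⟨⟨x, hx⟩, Subtype.ext hxy⟩

end Cfsg.Agent.Techniques.SL2.Nonstable
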