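import Cfsg.Agent.Lib.Classical.GL2
import Cfsg.Agent.Lib.Classical.SylowSL2
import Cfsg.Agent.Lib.GL2.Classes

/-!
# Finite groups with a faithful representation in `SL₂` of odd characteristic

The pointwise facts used in the counting argument behind Dickson's theorem on subgroups with more
than one Sylow subgroup in the natural characteristic.
-/

namespace Cfsg.Agent.Techniques.SL2.Basic

open Matrix
open scoped MatrixGroups
open Cfsg.Agent.GL2.Classes (IsScalar)

variable {F : Type*} [Field F] {G : Type*} [Group G] (ι : G →* SL(2, F))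

/-- The matrix of an element. -/
def mat (x : G) : Matrix (Fin 2) (Fin 2) F := (ι x : Matrix (Fin 2) (Fin 2) F)

/-- The element acts as a scalar. -/
def Cen (x : G) : Prop := IsScalar (mat ι x)

theorem mat_mul (x y : G) : mat ι (x * y) = mat ι x * mat ι y := by
  simp [mat]

theorem mat_one : mat ι 1 = 1 := by simp [mat]

theorem mat_pow (x : G) (n : ℕ) : mat ι (x ^ n) = mat ι x ^ n := by
  induction n with
  | zero => simp [mat_one]
  | succ n ih => rw [pow_succ, pow_succ, mat_mul, ih]

theorem det_mat (x : G) : (mat ι x).det = 1 := Matrix.SpecialLinearGroup.det_coe _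

theorem mat_injective (hι : Function.Injective ι) : Function.Injective (mat ι) :=
  fun _ _ h => hι (Subtype.ext h)

theorem cen_one : Cen ι 1 := ⟨1, by rw [mat_one, one_smul]⟩

theorem cen_iff (x : G) : Cen ι x ↔ mat ι x = 1 ∨ mat ι x = -1 := by
  constructor
  · rintro ⟨c, hc⟩
    have hd := det_mat ι x
    rw [hc, det_fin_two] at hd
    simp at hd
    rcases mul_self_eq_one_iff.1 hd with h | h <;> simp [hc, h]
  · rintro (h | h)
    · exact ⟨1, by rw [h, one_smul]⟩
    · exact ⟨-1, by rw [h, neg_one_smul]⟩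

variable {ι}

theorem Cen.commute (hι : Function.Injective ι) {x : G} (h : Cen ι x) (y : G) : Commute y x :=
  mat_injective ι hι (by rw [mat_mul, mat_mul]; exact IsScalar.commute h _)

theorem Cen.mul {x y : G} (hx : Cen ι x) (hy : Cen ι y) : Cen ι (x * y) := by
  obtain ⟨a, ha⟩ := hx
  obtain ⟨b, hb⟩ := hy
  exact ⟨a * b, by rw [mat_mul, ha, hb, smul_mul, Matrix.one_mul, smul_smul]⟩

theorem Cen.sq_eq_one (hι : Function.Injective ι) {x : G} (h : Cen ι x) : x * x = 1 :=
  mat_injective ι hι (by
    rcases (cen_iff ι x).1 h with h | h <;> rw [mat_mul, h, mat_one] <;> simp)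

theorem Cen.eq_or_eq (hι : Function.Injective ι) {x z : G} (h : Cen ι x) (hz : Cen ι z)
    (hz1 : z ≠ 1) : x = 1 ∨ x = z := by
  have hz' : mat ι z = -1 := ((cen_iff ι z).1 hz).resolve_left fun hh =>
    hz1 (mat_injective ι hι (hh.trans (mat_one ι).symm))
  rcases (cen_iff ι x).1 h with h | h
  · exact Or.inl (mat_injective ι hι (h.trans (mat_one ι).symm))
  · exact Or.inr (mat_injective ι hι (h.trans hz'.symm))

theorem Cen.conj (hι : Function.Injective ι) {x : G} (h : Cen ι x) (g : G) : g * x * g⁻¹ = x := by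
  rw [(h.commute hι g).eq, mul_assoc, mul_inv_cancel, mul_one]

/-- The commutant of a non-scalar element consists of the `a + b x`. -/
theorem exists_comb (hι : Function.Injective ι) {x y : G} (hx : ¬ Cen ι x) :
    Commute y x ↔ ∃ a b : F, mat ι y = a • 1 + b • mat ι x := by
  rw [← Cfsg.Agent.GL2.Classes.commute_iff hx, ← mat_mul, ← mat_mul]
  exact ⟨fun h => congrArg (mat ι) h.eq, fun h => mat_injective ι hι h⟩

theorem commute_of_commute (hι : Function.Injective ι) {x y w : G} (hx : ¬ Cen ι x)
    (hy : Commute y x) (hw : Commute w x) : Commute y w := by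
  obtain ⟨a, b, h1⟩ := (exists_comb hι hx).1 hy
  obtain ⟨c, d, h2⟩ := (exists_comb hι hx).1 hw
  refine mat_injective ι hι ?_
  rw [mat_mul, mat_mul, h1, h2]
  simp only [add_mul, mul_add, smul_mul, Matrix.mul_smul, Matrix.one_mul, Matrix.mul_one, smul_smul]
  rw [mul_comm c a, mul_comm d a, mul_comm c b, mul_comm d b]
  abel

theorem centralizer_eq (hι : Function.Injective ι) {x y : G} (hx : ¬ Cen ι x) (hy : ¬ Cen ι y)
    (h : Commute y x) : Subgroup.centralizer ({y} : Set G) = Subgroup.centralizer {x} := by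
  ext w
  rw [Subgroup.mem_centralizer_singleton_iff, Subgroup.mem_centralizer_singleton_iff]
  exact ⟨fun hw => (commute_of_commute hι hy hw h.symm).eq,
    fun hw => (commute_of_commute hι hx hw h).eq⟩

/-- Cayley–Hamilton in determinant one. -/
theorem sq_eq (x : G) : mat ι x * mat ι x = (mat ι x).trace • mat ι x - 1 := by
  have hd := det_mat ι x
  rw [det_fin_two] at hd
  ext i j
  fin_cases i <;> fin_cases j <;>
    simp [Matrix.mul_apply, Fin.sum_univ_two, trace_fin_two]
  · linear_combination (-1 : F) * hd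
  · ring
  · ring
  · linear_combination (-1 : F) * hd

theorem mat_inv (x : G) : mat ι x⁻¹ = (mat ι x).trace • 1 - mat ι x := by
  have h : mat ι x * ((mat ι x).trace • 1 - mat ι x) = 1 := by
    rw [mul_sub, Matrix.mul_smul, Matrix.mul_one, sq_eq, sub_sub_cancel]
  have h1 : mat ι x⁻¹ * mat ι x = 1 := by rw [← mat_mul, inv_mul_cancel, mat_one]
  calc mat ι x⁻¹ = mat ι x⁻¹ * (mat ι x * ((mat ι x).trace • 1 - mat ι x)) := by
        rw [h, Matrix.mul_one]
    _ = _ := by rw [← Matrix.mul_assoc, h1, Matrix.one_mul]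

theorem trace_conj (g x : G) : (mat ι (g * x * g⁻¹)).trace = (mat ι x).trace := by
  rw [mat_mul, mat_mul, Matrix.trace_mul_comm, ← Matrix.mul_assoc, ← mat_mul, inv_mul_cancel,
    mat_one, Matrix.one_mul]

theorem pow_of_trace_two {M : Matrix (Fin 2) (Fin 2) F} (h : M * M = (2 : F) • M - 1) (n : ℕ) :
    M ^ n = 1 + (n : F) • (M - 1) := by
  induction n with
  | zero => simp
  | succ n ih =>
    rw [pow_succ, ih, add_mul, Matrix.one_mul, smul_mul, sub_mul, h, Matrix.one_mul]
    push_cast
    module

section char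

variable [Fintype F] (p : ℕ) [hp : Fact p.Prime] [CharP F p]

theorem two_ne_zero' (hp2 : p ≠ 2) : (2 : F) ≠ 0 := by
  intro h
  have h' : ((2 : ℕ) : F) = 0 := by exact_mod_cast h
  exact hp2 ((Nat.prime_dvd_prime_iff_eq hp.out Nat.prime_two).1 ((CharP.cast_eq_zero_iff F p 2).1 h'))

theorem cen_of_sq (hι : Function.Injective ι) (hp2 : p ≠ 2) {x : G} (h : x * x = 1) : Cen ι x := by
  by_cases h1 : x = 1
  · exact h1 ▸ cen_one ι
  · refine (cen_iff ι x).2 (Or.inr ?_)
    exact Classical.SylowSL2.eq_neg_one_of_sq (two_ne_zero' p hp2) (ι x)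
      (fun hh => h1 (hι (hh.trans (map_one ι).symm))) (by rw [← map_mul, h, map_one])

theorem pow_eq_one_of_trace (hι : Function.Injective ι) {x : G} (h : (mat ι x).trace = 2) :
    x ^ p = 1 := by
  refine mat_injective ι hι ?_
  rw [mat_pow, mat_one, pow_of_trace_two (by rw [sq_eq, h]) p, CharP.cast_eq_zero, zero_smul,
    add_zero]

theorem cen_pow_of_trace (hι : Function.Injective ι) (hp2 : p ≠ 2) {x : G}
    (h : (mat ι x).trace = 2 ∨ (mat ι x).trace = -2) : Cen ι (x ^ p) := by
  rcases h with h | h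
  · exact pow_eq_one_of_trace p hι h ▸ cen_one ι
  · refine (cen_iff ι _).2 (Or.inr ?_)
    have hn : (-mat ι x) * (-mat ι x) = (2 : F) • (-mat ι x) - 1 := by
      rw [neg_mul_neg, sq_eq, h, neg_smul, smul_neg]
    have := pow_of_trace_two hn p
    rw [CharP.cast_eq_zero, zero_smul, add_zero, (hp.out.odd_of_ne_two hp2).neg_pow] at this
    rw [mat_pow, ← this, neg_neg]

theorem trace_of_pow {x : G} {k : ℕ} (h : x ^ p ^ k = 1) : (mat ι x).trace = 2 := by
  have hn : IsNilpotent (mat ι x - 1) := ⟨p ^ k, by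
    rw [sub_pow_char_pow_of_commute _ _ (Commute.one_right _), one_pow, ← mat_pow, h, mat_one,
      sub_self]⟩
  have := Matrix.isNilpotent_trace_of_isNilpotent hn
  rw [isNilpotent_iff_eq_zero, Matrix.trace_sub, Matrix.trace_one, sub_eq_zero] at this
  simpa using this

/-- The centralizer of a non-trivial `p`-element is a `p`-group up to scalars. -/
theorem cen_pow_of_commute (hι : Function.Injective ι) (hp2 : p ≠ 2) {u y : G} (hu : ¬ Cen ι u)
    {k : ℕ} (huk : u ^ p ^ k = 1) (hy : Commute y u) : Cen ι (y ^ p) := by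
  obtain ⟨a, b, h⟩ := (exists_comb hι hu).1 hy
  have ht := trace_of_pow (ι := ι) p huk
  have hd := det_mat ι u
  have hdy := det_mat ι y
  rw [h, det_fin_two] at hdy
  rw [det_fin_two] at hd
  simp at hdy
  rw [trace_fin_two] at ht
  have hab : (a + b) * (a + b) = 1 := by linear_combination hdy - b * b * hd - a * b * ht
  refine cen_pow_of_trace p hι hp2 ?_
  rw [h, trace_fin_two]
  simp
  rcases mul_self_eq_one_iff.1 hab with hh | hh
  · exact Or.inl (by linear_combination b * ht + 2 * hh)
  · exact Or.inr (by linear_combination b * ht + 2 * hh)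

/-- A conjugate of a semisimple element inside its centralizer is itself or its inverse. -/
theorem eq_or_eq_inv (hι : Function.Injective ι) (hp2 : p ≠ 2) {x g : G}
    (hx : ¬ Cen ι (x ^ p)) (hc : Commute (g * x * g⁻¹) x) :
    g * x * g⁻¹ = x ∨ g * x * g⁻¹ = x⁻¹ := by
  have hx1 : ¬ Cen ι x := fun h => hx (by
    rcases (cen_iff ι x).1 h with h' | h' <;>
      refine (cen_iff ι _).2 ?_ <;> rw [mat_pow, h']
    · exact Or.inl (one_pow p)
    · exact Or.inr ((hp.out.odd_of_ne_two hp2).neg_one_pow))
  obtain ⟨a, b, h⟩ := (exists_comb hι hx1).1 hc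
  set t := (mat ι x).trace with ht
  have h1 : (mat ι (g * x * g⁻¹)).trace = t := trace_conj g x
  have hd := det_mat ι x
  have hdh := det_mat ι (g * x * g⁻¹)
  rw [h] at h1 hdh
  rw [det_fin_two] at hd hdh
  rw [trace_fin_two] at ht h1
  simp at hdh h1
  have e1 : 2 * a = t * (1 - b) := by linear_combination h1 + b * ht
  have e2 : a * a + a * b * t + b * b = 1 := by
    linear_combination hdh + a * b * ht - b * b * hd
  have h4 : (t - 2) * (t + 2) ≠ 0 := by
    intro h4
    refine hx (cen_pow_of_trace p hι hp2 ?_)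
    rw [trace_fin_two, ← ht]
    rcases mul_eq_zero.1 h4 with h5 | h5
    · exact Or.inl (by linear_combination h5)
    · exact Or.inr (by linear_combination h5)
  have e3 : (1 - b) * (1 + b) * ((t - 2) * (t + 2)) = 0 := by
    linear_combination 4 * e2 - (2 * a + t * (1 - b) + 2 * b * t) * e1
  have h2 := two_ne_zero' (F := F) p hp2
  rcases mul_eq_zero.1 ((mul_eq_zero.1 e3).resolve_right h4) with hb | hb
  · left
    have ha : a = 0 :=
      (mul_eq_zero.1 (by linear_combination e1 + t * hb : (2 : F) * a = 0)).resolve_left h2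
    refine mat_injective ι hι ?_
    rw [h, ha, show b = 1 by linear_combination -hb, zero_smul, zero_add, one_smul]
  · right
    have ha : a = t := mul_left_cancel₀ h2 (by linear_combination e1 - t * hb)
    refine mat_injective ι hι ?_
    rw [h, mat_inv, ha, show b = -1 by linear_combination hb, neg_one_smul, ← sub_eq_add_neg,
      trace_fin_two, ← ht]

end char

end Cfsg.Agent.Techniques.SL2.Basic
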