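import Mathlib

/-!
# The arithmetic behind the class equation of a subgroup of `SL₂`
-/

namespace Cfsg.Agent.Techniques.SL2.Arith

theorem weight_bound {t i c h : ℕ} (hi : i ≤ 2) (hc : 4 ≤ c) (h1 : t * (i * c) = h) :
    h ≤ 4 * (t * (c - 2)) := by
  obtain ⟨c', rfl⟩ : ∃ c', c = c' + 2 := ⟨c - 2, by omega⟩
  rw [Nat.add_sub_cancel, ← h1]
  calc t * (i * (c' + 2)) ≤ t * (2 * (c' + 2)) := by gcongr
    _ ≤ t * (4 * c') := by gcongr t * ?_; omega
    _ = _ := by ring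

theorem weight_bound_one {t c h : ℕ} (hc : 4 ≤ c) (h1 : t * c = h) :
    h ≤ 2 * (t * (c - 2)) := by
  obtain ⟨c', rfl⟩ : ∃ c', c = c' + 2 := ⟨c - 2, by omega⟩
  rw [Nat.add_sub_cancel, ← h1]
  calc t * (c' + 2) ≤ t * (2 * c') := by gcongr; omega
    _ = _ := by ring

theorem rest_pos {r d q v : ℕ} (hr : 2 ≤ r) (hd : 1 ≤ d)
    (hV : v + r * q + 2 = r * d * q + 2 * r) : 0 < v := by
  have : r * q ≤ r * d * q := Nat.mul_le_mul_right q (Nat.le_mul_of_pos_right r (by omega))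
  omega

theorem rest_lt {r d q v : ℕ} (hq : 3 ≤ q) (hV : v + r * q + 2 = r * d * q + 2 * r) :
    v < r * d * q := by
  have : r * 3 ≤ r * q := Nat.mul_le_mul_left r hq
  omega

theorem orbit_equation {r d q v t a : ℕ} (ha : 2 ≤ a)
    (hV : v + r * q + 2 = r * d * q + 2 * r) (h1 : t * (2 * (2 * a)) = 2 * r * d * q)
    (h2 : t * (2 * a - 2) = v) : a * (r * q + 2) = r * d * q + 2 * a * r := by
  obtain ⟨b, rfl⟩ : ∃ b, a = b + 1 := ⟨a - 1, by omega⟩
  rw [show 2 * (b + 1) - 2 = 2 * b by omega] at h2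
  zify at *
  have h3 : (t : ℤ) * 2 * (b + 1) = r * d * q := by
    refine mul_left_cancel₀ (two_ne_zero : (2 : ℤ) ≠ 0) ?_
    linear_combination h1
  have h4 : (r : ℤ) * q + 2 = 2 * t + 2 * r := by linear_combination hV + h2 - h3
  linear_combination ((b : ℤ) + 1) * h4 + h3

theorem main {a r q d k : ℕ} (heq : a * (r * q + 2) = r * d * q + 2 * a * r)
    (hr : r = 1 + k * q) (hk : 1 ≤ k) (hq : 3 ≤ q) (hd : d + 1 ≤ q) (ha : 1 ≤ a) :
    k = 1 ∨ (q = 3 ∧ d = 2 ∧ k = 3 ∧ a = 5) := by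
  subst hr
  obtain ⟨e, he⟩ : ∃ e : ℤ, e = q * d - a * ((q : ℤ) - 2) := ⟨_, rfl⟩
  zify at heq hk hq hd ha
  have h1 : (1 + (k : ℤ) * q) * e = 2 * a := by rw [he]; linear_combination -heq
  have hpos : (0 : ℤ) < 1 + k * q := by positivity
  have he0 : 1 ≤ e := by
    by_contra h
    nlinarith
  have h2 : e * (1 + k * ((q : ℤ) - 2)) = 2 * d := by
    refine mul_left_cancel₀ (show (q : ℤ) ≠ 0 by omega) ?_
    linear_combination ((q : ℤ) - 2) * h1 + 2 * he
  by_contra hne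
  push Not at hne
  have hk2 : (2 : ℤ) ≤ k := by
    have := hne.1
    omega
  have he1 : e = 1 := by
    by_contra h
    have he2 : 2 ≤ e := by omega
    have h3 : 2 * (1 + k * ((q : ℤ) - 2)) ≤ e * (1 + k * ((q : ℤ) - 2)) := by
      apply mul_le_mul_of_nonneg_right he2
      nlinarith
    nlinarith
  rw [he1, one_mul] at h2
  rw [he1, mul_one] at h1
  rcases eq_or_lt_of_le hk2 with hk3 | hk3
  · rw [← hk3] at h2; omega
  · have hq3 : q = 3 := by
      by_contra h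
      have h4 : (4 : ℤ) ≤ q := by omega
      have : 3 * ((q : ℤ) - 2) ≤ k * ((q : ℤ) - 2) := by
        apply mul_le_mul_of_nonneg_right <;> omega
      omega
    subst hq3
    have hd' : d ≤ 2 := by omega
    have hkk : k = 3 := by push_cast at h2; omega
    subst hkk
    push_cast at h1 h2
    exact hne.2 rfl (by omega) rfl (by omega)

end Cfsg.Agent.Techniques.SL2.Arith
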