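import Cfsg.Agent.Techniques.SL2.Basic

/-!
# Sylow subgroups and their normalisers inside a subgroup of `SL₂`
-/

namespace Cfsg.Agent.Techniques.SL2.Borel

open Matrix
open scoped MatrixGroups Pointwise
open Cfsg.Agent.Techniques.SL2.Basic

variable {F : Type*} [Field F] [Fintype F] {G : Type*} [Group G]
variable {ι : G →* SL(2, F)} (p : ℕ) [hp : Fact p.Prime] [CharP F p]

theorem mem_sylow_of_commute {P : Sylow p G} {y : G} {n : ℕ} (hy : y ^ p ^ n = 1)
    (hc : ∀ w ∈ P, Commute y w) : y ∈ P := by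
  have hQ : IsPGroup p (Subgroup.zpowers y) := by
    obtain ⟨m, -, hm⟩ := (Nat.dvd_prime_pow hp.out).1 (orderOf_dvd_of_pow_eq_one hy)
    exact IsPGroup.of_card (by rw [Nat.card_zpowers, hm])
  have hnorm : Subgroup.zpowers y ≤ Subgroup.normalizer ((P : Subgroup G) : Set G) := by
    rw [Subgroup.zpowers_le]
    refine Subgroup.mem_normalizer_iff.2 fun w => ⟨fun hw => ?_, fun hw => ?_⟩
    · rwa [(hc w hw).eq, mul_assoc, mul_inv_cancel, mul_one]
    · have : y * w * y⁻¹ = w := by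
        have h2 : y * (y * w * y⁻¹) = (y * w * y⁻¹) * y := (hc _ hw).eq
        have h3 : y * w * y⁻¹ = y⁻¹ * (y * w * y⁻¹) * y := by
          rw [mul_assoc y⁻¹, ← h2, inv_mul_cancel_left]
        rw [h3]; group
      rwa [this] at hw
  have h := P.is_maximal' (hQ.to_sup_of_normal_right' P.isPGroup' hnorm) le_sup_right
  exact SetLike.ext_iff.1 h y |>.1 (Subgroup.mem_sup_left (Subgroup.mem_zpowers y))

variable (hι : Function.Injective ι) (hp2 : p ≠ 2)
include hι hp2

theorem eq_one_of_cen {u : G} {k : ℕ} (huk : u ^ p ^ k = 1) (h : Cen ι u) : u = 1 := by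
  have h1 := orderOf_dvd_of_pow_eq_one huk
  have h2 : orderOf u ∣ 2 := orderOf_dvd_of_pow_eq_one (by rw [pow_two]; exact h.sq_eq_one hι)
  have hcop : Nat.Coprime (p ^ k) 2 :=
    ((Nat.coprime_primes hp.out Nat.prime_two).2 hp2).pow_left k
  exact orderOf_eq_one_iff.1 (Nat.eq_one_of_dvd_coprimes hcop h1 h2)

theorem not_cen_of_mem {P : Sylow p G} {u : G} (hu : u ∈ P) (h1 : u ≠ 1) : ¬ Cen ι u := by
  intro h
  obtain ⟨k, hk⟩ := P.isPGroup' ⟨u, hu⟩
  exact h1 (eq_one_of_cen p hι hp2 (k := k) (congrArg Subtype.val hk) h)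

theorem sylow_commute [Finite G] {P : Sylow p G} {a b : G} (ha : a ∈ P) (hb : b ∈ P) :
    Commute a b := by
  by_cases ht : Nontrivial (P : Subgroup G)
  · have := P.isPGroup'.center_nontrivial
    obtain ⟨⟨u, huc⟩, hu⟩ := exists_ne (1 : Subgroup.center (P : Subgroup G))
    have hu1 : (u : G) ≠ 1 := fun h => hu (Subtype.ext (Subtype.ext h))
    have hc : ∀ w ∈ P, Commute w (u : G) := fun w hw =>
      congrArg Subtype.val (Subgroup.mem_center_iff.1 huc ⟨w, hw⟩)
    exact commute_of_commute hι (not_cen_of_mem p hι hp2 u.2 hu1) (hc a ha) (hc b hb)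
  · rw [not_nontrivial_iff_subsingleton] at ht
    have : (⟨a, ha⟩ : (P : Subgroup G)) = ⟨b, hb⟩ := Subsingleton.elim _ _
    exact (show a = b from congrArg Subtype.val this) ▸ Commute.refl a

theorem sylow_eq_of_mem [Finite G] {P Q : Sylow p G} {u : G} (hP : u ∈ P) (hQ : u ∈ Q)
    (h1 : u ≠ 1) : P = Q := by
  have hu := not_cen_of_mem p hι hp2 hP h1
  refine Sylow.ext (le_antisymm ?_ ?_)
  · intro y hy
    obtain ⟨k, hk⟩ := P.isPGroup' ⟨y, hy⟩
    exact mem_sylow_of_commute p (n := k) (congrArg Subtype.val hk) fun w hw =>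
      commute_of_commute hι hu (sylow_commute p hι hp2 hy hP) (sylow_commute p hι hp2 hw hQ)
  · intro y hy
    obtain ⟨k, hk⟩ := Q.isPGroup' ⟨y, hy⟩
    exact mem_sylow_of_commute p (n := k) (congrArg Subtype.val hk) fun w hw =>
      commute_of_commute hι hu (sylow_commute p hι hp2 hy hQ) (sylow_commute p hι hp2 hw hP)

theorem mul_mem_of_mem_centralizer [Finite G] {P : Sylow p G} {u y : G} (hu : u ∈ P) (h1 : u ≠ 1)
    (hy : y ∈ Subgroup.centralizer ({u} : Set G)) :
    ∃ c w : G, Cen ι c ∧ w ∈ P ∧ y = c * w := by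
  have hyu : Commute y u := Subgroup.mem_centralizer_singleton_iff.1 hy
  obtain ⟨k, hk⟩ := P.isPGroup' ⟨u, hu⟩
  have hun := not_cen_of_mem p hι hp2 hu h1
  have hc : Cen ι (y ^ p) :=
    cen_pow_of_commute p hι hp2 hun (k := k) (congrArg Subtype.val hk) hyu
  have hP : ∀ y' : G, Commute y' u → ∀ w ∈ P, Commute y' w := fun y' h w hw =>
    commute_of_commute hι hun h (sylow_commute p hι hp2 hw hu)
  refine ⟨y ^ p, y * y ^ p, hc, ?_, ?_⟩
  · refine mem_sylow_of_commute p (n := 1) ?_ (hP _ (hyu.mul_left (hyu.pow_left p)))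
    obtain ⟨m, hm⟩ := hp.out.odd_of_ne_two hp2
    rw [pow_one, (Commute.self_pow y p).mul_pow, ← pow_succ' (y ^ p) p,
      show p + 1 = 2 * (m + 1) by omega, pow_mul, pow_two, hc.sq_eq_one hι, one_pow]
  · rw [← mul_assoc, (Commute.pow_self y p).eq, mul_assoc, hc.sq_eq_one hι, mul_one]

theorem mem_centralizer_of [Finite G] {P : Sylow p G} {u c w : G} (hu : u ∈ P) (hc : Cen ι c)
    (hw : w ∈ P) : c * w ∈ Subgroup.centralizer ({u} : Set G) :=
  Subgroup.mem_centralizer_singleton_iff.2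
    ((hc.commute hι u).symm.mul_left (sylow_commute p hι hp2 hw hu)).eq

theorem centralizer_eq_of_mem [Finite G] {P : Sylow p G} {u v : G} (hu : u ∈ P) (hu1 : u ≠ 1)
    (hv : v ∈ P) (hv1 : v ≠ 1) :
    Subgroup.centralizer ({v} : Set G) = Subgroup.centralizer {u} :=
  centralizer_eq hι (not_cen_of_mem p hι hp2 hu hu1) (not_cen_of_mem p hι hp2 hv hv1)
    (sylow_commute p hι hp2 hv hu)

theorem mem_sylow_of_mem_centralizer [Finite G] {P : Sylow p G} {u y : G} (hu : u ∈ P)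
    (h1 : u ≠ 1) (hy : y ∈ Subgroup.centralizer ({u} : Set G)) {k : ℕ} (hk : y ^ p ^ k = 1) :
    y ∈ P :=
  mem_sylow_of_commute p hk fun _ hw => commute_of_commute hι (not_cen_of_mem p hι hp2 hu h1)
    (Subgroup.mem_centralizer_singleton_iff.1 hy) (sylow_commute p hι hp2 hw hu)

theorem natCard_centralizer [Finite G] {P : Sylow p G} {u z : G} (hu : u ∈ P) (h1 : u ≠ 1)
    (hz : Cen ι z) (hz1 : z ≠ 1) :
    Nat.card (Subgroup.centralizer ({u} : Set G)) = 2 * Nat.card (P : Subgroup G) := by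
  have hzo : orderOf z = 2 :=
    orderOf_eq_prime (by rw [pow_two]; exact hz.sq_eq_one hι) hz1
  have hzc : ∀ c ∈ Subgroup.zpowers z, Cen ι c := by
    rintro c ⟨n, rfl⟩
    have h2 : z ^ (n % 2) = z ^ n := by rw [← zpow_mod_orderOf z n, hzo]; rfl
    rcases Int.emod_two_eq n with h | h <;> simp only <;> rw [← h2, h]
    · simpa using cen_one ι
    · simpa using hz
  let f : Subgroup.zpowers z × (P : Subgroup G) → Subgroup.centralizer ({u} : Set G) :=
    fun a => ⟨(a.1 : G) * a.2, mem_centralizer_of p hι hp2 hu (hzc _ a.1.2) a.2.2⟩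
  have hf : Function.Bijective f := by
    constructor
    · rintro ⟨⟨c, hc⟩, ⟨w, hw⟩⟩ ⟨⟨c', hc'⟩, ⟨w', hw'⟩⟩ h
      have h' : c * w = c' * w' := congrArg Subtype.val h
      have e : c'⁻¹ * c = w' * w⁻¹ := by
        rw [eq_mul_inv_iff_mul_eq, mul_assoc, h', inv_mul_cancel_left]
      have hw1 : w' * w⁻¹ = 1 := by
        by_contra hne
        exact not_cen_of_mem p hι hp2 (P := P) (mul_mem hw' (inv_mem hw)) hne
          (e ▸ hzc _ (mul_mem (inv_mem hc') hc))
      rw [hw1, inv_mul_eq_one] at e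
      rw [mul_inv_eq_one] at hw1
      subst e hw1
      rfl
    · rintro ⟨y, hy⟩
      obtain ⟨c, w, hc, hw, rfl⟩ := mul_mem_of_mem_centralizer p hι hp2 hu h1 hy
      refine ⟨(⟨c, ?_⟩, ⟨w, hw⟩), rfl⟩
      rcases hc.eq_or_eq hι hz hz1 with h | h
      · exact h ▸ one_mem _
      · exact h ▸ Subgroup.mem_zpowers z
  rw [← Nat.card_congr (Equiv.ofBijective f hf), Nat.card_prod, Nat.card_zpowers, hzo]

/-- The normalisers of the centraliser of a `p`-element and of its Sylow subgroup agree. -/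
theorem normalizer_centralizer [Finite G] {P : Sylow p G} {u : G} (hu : u ∈ P) (h1 : u ≠ 1) :
    Subgroup.normalizer ((Subgroup.centralizer ({u} : Set G) : Subgroup G) : Set G) =
      Subgroup.normalizer ((P : Subgroup G) : Set G) := by
  ext g
  constructor
  · intro hg
    refine Subgroup.mem_normalizer_fintype ?_
    intro w hw
    have hw' : w ∈ (P : Subgroup G) := hw
    obtain ⟨k, hk⟩ := P.isPGroup' ⟨w, hw'⟩
    refine mem_sylow_of_mem_centralizer p hι hp2 hu h1 ((Subgroup.mem_normalizer_iff.1 hg w).1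
      (by simpa using mem_centralizer_of p hι hp2 hu (cen_one ι) hw')) (k := k) ?_
    rw [conj_pow, show w ^ p ^ k = 1 from congrArg Subtype.val hk]
    group
  · intro hg
    refine Subgroup.mem_normalizer_fintype ?_
    intro y hy
    obtain ⟨c, w, hc, hw, rfl⟩ := mul_mem_of_mem_centralizer p hι hp2 hu h1 hy
    have hgw : g * w * g⁻¹ ∈ (P : Subgroup G) := (Subgroup.mem_normalizer_iff.1 hg w).1 hw
    have := mem_centralizer_of p hι hp2 hu hc hgw
    have e : g * (c * w) * g⁻¹ = c * (g * w * g⁻¹) := by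
      rw [← mul_assoc g c, (hc.commute hι g).eq]; group
    exact e ▸ this

omit hp2
variable {P : Sylow p G} (hP : ∀ x ∈ P, mat ι x 1 0 = 0 ∧ mat ι x 0 0 = 1)
include hP

theorem mem_of_upper {x : G} (h10 : mat ι x 1 0 = 0) (h00 : mat ι x 0 0 = 1) : x ∈ P := by
  have key : ∀ y : G, (mat ι y 1 0 = 0 ∧ mat ι y 0 0 = 1) ↔ y ∈ (Classical.GL2.U F).comap ι := by
    intro y
    refine ⟨fun h => ?_, ?_⟩
    · refine Subgroup.mem_comap.2 ⟨Multiplicative.ofAdd (mat ι y 0 1), Classical.GL2.sl_ext ?_⟩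
      have hd := det_mat ι y
      rw [det_fin_two, h.1, h.2] at hd
      simp at hd
      rw [Classical.GL2.coe_uniHom]
      ext i j
      fin_cases i <;> fin_cases j <;> simp [mat] at * <;> simp [*]
    · intro h
      obtain ⟨c, hc⟩ := Subgroup.mem_comap.1 h
      have : mat ι y = !![1, c.toAdd; 0, 1] := by
        rw [mat, ← hc, Classical.GL2.coe_uniHom]
      simp [this]
  have hle : (P : Subgroup G) ≤ (Classical.GL2.U F).comap ι := fun y hy => (key y).1 (hP y hy)
  have hU : IsPGroup p ((Classical.GL2.U F).comap ι) :=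
    (Classical.GL2.isPGroup_of_card_eq p _
      (Classical.GL2.natCard_U.trans Nat.card_eq_fintype_card)).comap_of_injective ι hι
  exact (SetLike.ext_iff.1 (P.is_maximal' hU hle) x).1 ((key x).1 ⟨h10, h00⟩)

theorem mul_apply_of_upper {x y : G} (hx : mat ι x 1 0 = 0) (hy : mat ι y 1 0 = 0) :
    mat ι (x * y) 1 0 = 0 ∧ mat ι (x * y) 0 0 = mat ι x 0 0 * mat ι y 0 0 := by
  rw [mat_mul]
  simp [Matrix.mul_apply, Fin.sum_univ_two, hx, hy]

theorem inv_apply_of_upper {x : G} (hx : mat ι x 1 0 = 0) :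
    mat ι x⁻¹ 1 0 = 0 ∧ mat ι x⁻¹ 0 0 * mat ι x 0 0 = 1 := by
  have hd := det_mat ι x
  rw [det_fin_two, hx] at hd
  rw [mat_inv, trace_fin_two]
  simp [hx]
  linear_combination hd

theorem conj_mem_of_upper {g w : G} (hg : mat ι g 1 0 = 0) (hw : w ∈ P) : g * w * g⁻¹ ∈ P := by
  obtain ⟨h1, h2⟩ := hP w hw
  obtain ⟨i1, i2⟩ := inv_apply_of_upper p hι hP hg
  obtain ⟨a1, a2⟩ := mul_apply_of_upper p hι hP hg h1
  obtain ⟨b1, b2⟩ := mul_apply_of_upper p hι hP a1 i1
  refine mem_of_upper p hι hP b1 ?_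
  rw [b2, a2, h2, mul_one, mul_comm, i2]

theorem mem_normalizer_iff [Finite G] (hne : (P : Subgroup G) ≠ ⊥) (g : G) :
    g ∈ Subgroup.normalizer ((P : Subgroup G) : Set G) ↔ mat ι g 1 0 = 0 := by
  constructor
  · intro hg
    obtain ⟨u, hu1⟩ := Subgroup.ne_bot_iff_exists_ne_one.1 hne
    have h1 : (u : G) ≠ 1 := fun h => hu1 (Subtype.ext h)
    obtain ⟨a1, a2⟩ := hP _ u.2
    have hw : g⁻¹ * u * g ∈ (P : Subgroup G) := by
      simpa using (Subgroup.mem_normalizer_iff.1 (inv_mem hg) (u : G)).1 u.2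
    obtain ⟨b1, b2⟩ := hP _ hw
    have up : ∀ v : G, mat ι v 1 0 = 0 → mat ι v 0 0 = 1 →
        mat ι v = !![1, mat ι v 0 1; 0, 1] := by
      intro v e1 e2
      have hd := det_mat ι v
      rw [det_fin_two, e1, e2] at hd
      simp at hd
      ext i j
      fin_cases i <;> fin_cases j <;> simp [e1, e2, hd]
    refine Classical.GL2.apply_one_zero_of_commute (c := mat ι (u : G) 0 1)
      (d := mat ι (g⁻¹ * u * g) 0 1) ?_ ?_
    · intro h0
      refine h1 (mat_injective ι hι ?_)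
      rw [up _ a1 a2, h0, mat_one, one_fin_two]
    · rw [← up _ a1 a2, ← up _ b1 b2, ← mat_mul, ← mat_mul]
      congr 1
      group
  · intro hg
    exact Subgroup.mem_normalizer_fintype fun w hw => conj_mem_of_upper p hι hP hg hw

theorem commutator_mem {g h : G} (hg : mat ι g 1 0 = 0) (hh : mat ι h 1 0 = 0) :
    h * g * h⁻¹ * g⁻¹ ∈ P := by
  obtain ⟨i1, i2⟩ := inv_apply_of_upper p hι hP hh
  obtain ⟨j1, j2⟩ := inv_apply_of_upper p hι hP hg
  obtain ⟨a1, a2⟩ := mul_apply_of_upper p hι hP hh hg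
  obtain ⟨b1, b2⟩ := mul_apply_of_upper p hι hP a1 i1
  obtain ⟨c1, c2⟩ := mul_apply_of_upper p hι hP b1 j1
  refine mem_of_upper p hι hP c1 ?_
  rw [c2, b2, a2]
  calc _ = (mat ι h⁻¹ 0 0 * mat ι h 0 0) * (mat ι g⁻¹ 0 0 * mat ι g 0 0) := by ring
    _ = 1 := by rw [i2, j2, mul_one]

theorem centralizer_le_normalizer [Finite G] (hne : (P : Subgroup G) ≠ ⊥) {g : G}
    (hg : g ∈ Subgroup.normalizer ((P : Subgroup G) : Set G)) (hgc : ¬ Cen ι g) :
    Subgroup.centralizer ({g} : Set G) ≤ Subgroup.normalizer ((P : Subgroup G) : Set G) := by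
  intro y hy
  obtain ⟨a, b, h⟩ := (exists_comb hι hgc).1 (Subgroup.mem_centralizer_singleton_iff.1 hy)
  rw [mem_normalizer_iff p hι hP hne] at hg ⊢
  simp [h, hg]

end Cfsg.Agent.Techniques.SL2.Borel
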