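import Cfsg.Agent.Techniques.SL2.Borel

/-!
# The class equation of centralisers
-/

namespace Cfsg.Agent.Techniques.SL2.Count

open scoped MatrixGroups Pointwise _root_.Classical
open Cfsg.Agent.Techniques.SL2.Basic

section orbit

variable {G : Type*} [Group G] [Fintype G]

/-- The conjugates of a subgroup. -/
noncomputable def conjs (A : Subgroup G) : Finset (Subgroup G) :=
  Finset.univ.image fun g : G => MulAut.conj g • A

theorem mem_conjs {A B : Subgroup G} : B ∈ conjs A ↔ ∃ g : G, MulAut.conj g • A = B := by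
  simp [conjs]

theorem self_mem (A : Subgroup G) : A ∈ conjs A := mem_conjs.2 ⟨1, by simp⟩

theorem conjs_eq {A B : Subgroup G} (h : B ∈ conjs A) : conjs B = conjs A := by
  obtain ⟨g, rfl⟩ := mem_conjs.1 h
  ext C
  rw [mem_conjs, mem_conjs]
  constructor
  · rintro ⟨h, rfl⟩
    exact ⟨h * g, by rw [map_mul, mul_smul]⟩
  · rintro ⟨h, rfl⟩
    exact ⟨h * g⁻¹, by rw [← mul_smul, ← map_mul, inv_mul_cancel_right]⟩

theorem conj_smul_eq_iff {A : Subgroup G} {g : G} :
    MulAut.conj g • A = A ↔ g ∈ Subgroup.normalizer (A : Set G) := by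
  constructor
  · intro h
    refine Subgroup.mem_normalizer_fintype fun w hw => ?_
    have h2 := Subgroup.smul_mem_pointwise_smul w (MulAut.conj g) A hw
    rw [h] at h2
    simpa [MulAut.smul_def] using h2
  · intro h
    ext w
    rw [Subgroup.mem_pointwise_smul_iff_inv_smul_mem]
    have := (Subgroup.mem_normalizer_iff.1 (inv_mem h) w).symm
    simpa [MulAut.smul_def] using this

theorem card_conjs_mul (A : Subgroup G) :
    (conjs A).card * Nat.card (Subgroup.normalizer (A : Set G)) = Nat.card G := by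
  have h : ∀ B ∈ conjs A, (Finset.univ.filter fun g : G => MulAut.conj g • A = B).card =
      Nat.card (Subgroup.normalizer (A : Set G)) := by
    intro B hB
    obtain ⟨g₀, rfl⟩ := mem_conjs.1 hB
    rw [← Fintype.card_subtype, ← Nat.card_eq_fintype_card]
    refine Nat.card_congr ((Equiv.mulLeft g₀⁻¹).subtypeEquiv fun g => ?_)
    rw [Equiv.coe_mulLeft, ← conj_smul_eq_iff, map_mul, map_inv, mul_smul, inv_smul_eq_iff]
  have h2 := Finset.card_eq_sum_card_image (fun g : G => MulAut.conj g • A) Finset.univ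
  rw [← conjs, Finset.sum_congr rfl h, Finset.sum_const, smul_eq_mul, Finset.card_univ,
    ← Nat.card_eq_fintype_card] at h2
  exact h2.symm

theorem natCard_conj (A : Subgroup G) (g : G) :
    Nat.card (MulAut.conj g • A : Subgroup G) = Nat.card A :=
  (Nat.card_congr (Subgroup.equivSMul (MulAut.conj g) A).toEquiv).symm

/-- The weight of an orbit. -/
noncomputable def weight (A : Subgroup G) : ℕ := (conjs A).card * (Nat.card A - 2)

theorem sum_conjs (A : Subgroup G) : ∑ B ∈ conjs A, (Nat.card B - 2) = weight A := by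
  rw [weight, ← smul_eq_mul, ← Finset.sum_const]
  refine Finset.sum_congr rfl fun B hB => ?_
  obtain ⟨g, rfl⟩ := mem_conjs.1 hB
  rw [natCard_conj]

end orbit

variable {F : Type*} [Field F] {G : Type*} [Group G] [Fintype G]

/-- The centralisers of non-scalar elements. -/
noncomputable def cents (ι : G →* SL(2, F)) : Finset (Subgroup G) :=
  (Finset.univ.filter fun x => ¬ Cen ι x).image fun x => Subgroup.centralizer ({x} : Set G)

variable {ι : G →* SL(2, F)}

theorem mem_cents {A : Subgroup G} :
    A ∈ cents ι ↔ ∃ x, ¬ Cen ι x ∧ Subgroup.centralizer ({x} : Set G) = A := by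
  simp [cents]

theorem conj_smul_centralizer (g x : G) :
    MulAut.conj g • Subgroup.centralizer ({x} : Set G) =
      Subgroup.centralizer ({g * x * g⁻¹} : Set G) := by
  ext w
  rw [Subgroup.mem_pointwise_smul_iff_inv_smul_mem, ← map_inv, MulAut.smul_def, MulAut.conj_apply,
    inv_inv, Subgroup.mem_centralizer_singleton_iff, Subgroup.mem_centralizer_singleton_iff]
  constructor <;> intro h
  · calc w * (g * x * g⁻¹) = g * (g⁻¹ * w * g * x) * g⁻¹ := by group
      _ = g * (x * (g⁻¹ * w * g)) * g⁻¹ := by rw [h]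
      _ = _ := by group
  · calc g⁻¹ * w * g * x = g⁻¹ * (w * (g * x * g⁻¹)) * g := by group
      _ = g⁻¹ * (g * x * g⁻¹ * w) * g := by rw [h]
      _ = _ := by group

theorem conjs_subset (hι : Function.Injective ι) {A : Subgroup G} (hA : A ∈ cents ι) :
    conjs A ⊆ cents ι := by
  intro B hB
  obtain ⟨x, hx, rfl⟩ := mem_cents.1 hA
  obtain ⟨g, rfl⟩ := mem_conjs.1 hB
  refine mem_cents.2 ⟨g * x * g⁻¹, fun h => hx ?_, (conj_smul_centralizer g x).symm⟩
  have h2 := h.conj hι g⁻¹
  rw [inv_inv, show g⁻¹ * (g * x * g⁻¹) * g = x by group] at h2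
  rwa [← h2] at h

variable (hι : Function.Injective ι) {z : G} (hz : Cen ι z) (hz1 : z ≠ 1)
include hι hz hz1

theorem card_cen (A : Subgroup G) (hA : z ∈ A) :
    (Finset.univ.filter fun x => x ∈ A ∧ Cen ι x).card = 2 := by
  have : (Finset.univ.filter fun x => x ∈ A ∧ Cen ι x) = {1, z} := by
    ext x
    simp only [Finset.mem_filter, Finset.mem_univ, true_and, Finset.mem_insert,
      Finset.mem_singleton]
    refine ⟨fun h => h.2.eq_or_eq hι hz hz1, ?_⟩
    rintro (rfl | rfl)
    · exact ⟨one_mem _, cen_one ι⟩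
    · exact ⟨hA, hz⟩
  rw [this, Finset.card_pair hz1.symm]

theorem card_fibre {A : Subgroup G} (hA : A ∈ cents ι) :
    ((Finset.univ.filter fun x => ¬ Cen ι x).filter
      fun x => Subgroup.centralizer ({x} : Set G) = A).card = Nat.card A - 2 := by
  obtain ⟨x₀, hx₀, rfl⟩ := mem_cents.1 hA
  have he : ((Finset.univ.filter fun x => ¬ Cen ι x).filter
      fun x => Subgroup.centralizer ({x} : Set G) = Subgroup.centralizer ({x₀} : Set G)) =
      (Finset.univ.filter fun x => x ∈ Subgroup.centralizer ({x₀} : Set G)).filter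
        fun x => ¬ Cen ι x := by
    ext x
    simp only [Finset.mem_filter, Finset.mem_univ, true_and]
    constructor
    · rintro ⟨hx, h⟩
      exact ⟨h ▸ Subgroup.mem_centralizer_singleton_iff.2 rfl, hx⟩
    · rintro ⟨h, hx⟩
      exact ⟨hx, centralizer_eq hι hx₀ hx (Subgroup.mem_centralizer_singleton_iff.1 h)⟩
  have hzmem : z ∈ Subgroup.centralizer ({x₀} : Set G) :=
    Subgroup.mem_centralizer_singleton_iff.2 (hz.commute hι x₀).symm.eq
  have h2 := Finset.card_filter_add_card_filter_not
    (s := Finset.univ.filter fun x => x ∈ Subgroup.centralizer ({x₀} : Set G)) (fun x => Cen ι x)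
  rw [Finset.filter_filter, card_cen hι hz hz1 _ hzmem, ← Fintype.card_subtype,
    ← Nat.card_eq_fintype_card] at h2
  rw [he]
  exact (Nat.sub_eq_of_eq_add' h2.symm).symm

/-- The class equation. -/
theorem sum_cents : ∑ A ∈ cents ι, (Nat.card A - 2) = Nat.card G - 2 := by
  have h1 := Finset.card_eq_sum_card_image (fun x => Subgroup.centralizer ({x} : Set G))
    (Finset.univ.filter fun x => ¬ Cen ι x)
  rw [← cents, Finset.sum_congr rfl fun A hA => card_fibre hι hz hz1 hA] at h1
  rw [← h1]
  have h2 := Finset.card_filter_add_card_filter_not (s := (Finset.univ : Finset G))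
    (fun x => Cen ι x)
  have h3 := card_cen hι hz hz1 ⊤ (Subgroup.mem_top z)
  simp only [Subgroup.mem_top, true_and] at h3
  rw [h3, Finset.card_univ, ← Nat.card_eq_fintype_card] at h2
  exact (Nat.sub_eq_of_eq_add' h2.symm).symm

theorem four_le {A : Subgroup G} (hA : A ∈ cents ι) : 4 ≤ Nat.card A := by
  obtain ⟨x, hx, rfl⟩ := mem_cents.1 hA
  set A := Subgroup.centralizer ({x} : Set G)
  have hzmem : z ∈ A := Subgroup.mem_centralizer_singleton_iff.2 (hz.commute hι x).symm.eq
  have h2 : 2 ∣ Nat.card A := by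
    rw [← orderOf_eq_prime (x := z) (p := 2) (by rw [pow_two]; exact hz.sq_eq_one hι) hz1]
    exact Subgroup.orderOf_dvd_natCard A hzmem
  have h3 : 2 < Nat.card A := by
    by_contra h
    have hle : Nat.card A ≤ 2 := not_lt.1 h
    have hc := card_cen hι hz hz1 A hzmem
    have hlt : (Finset.univ.filter fun y => y ∈ A ∧ Cen ι y).card <
        (Finset.univ.filter fun y => y ∈ A).card := by
      refine Finset.card_lt_card (Finset.ssubset_iff_of_subset ?_ |>.2 ⟨x, ?_, ?_⟩)
      · intro y hy
        simp only [Finset.mem_filter, Finset.mem_univ, true_and] at hy ⊢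
        exact hy.1
      · simpa using Subgroup.mem_centralizer_singleton_iff.2 rfl
      · simp [hx]
    rw [hc, ← Fintype.card_subtype, ← Nat.card_eq_fintype_card] at hlt
    omega
  obtain ⟨m, hm⟩ := h2
  omega

end Cfsg.Agent.Techniques.SL2.Count
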