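import Cfsg.Agent.Techniques.SL2.Orbits

/-!
# Dickson: several Sylow subgroups force `SL₂(p)`
-/

namespace Cfsg.Agent.Techniques.SL2.Dickson

open scoped MatrixGroups Pointwise _root_.Classical
open Cfsg.Agent.Techniques.SL2.Basic Cfsg.Agent.Techniques.SL2.Count
open Cfsg.Agent.Techniques.SL2.Transitive (HasSL2)

variable {F : Type*} [Field F] [Fintype F] {G : Type*} [Group G] [Fintype G]
variable {ι : G →* SL(2, F)} (p : ℕ) [hp : Fact p.Prime] [CharP F p]
variable (hι : Function.Injective ι) (hp2 : p ≠ 2) {z : G} (hz : Cen ι z) (hz1 : z ≠ 1)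
include hι hp2 hz hz1

/-- A union of orbits of semisimple centralisers of small total weight is a single orbit. -/
theorem single_orbit {r d q v : ℕ} (hG : Nat.card G = 2 * r * d * q) (hr : 2 ≤ r) (hd : 1 ≤ d)
    (hq : 3 ≤ q) (hv : v + r * q + 2 = r * d * q + 2 * r) (R : Finset (Subgroup G))
    (hR : R ⊆ cents ι) (hinv : ∀ A ∈ R, conjs A ⊆ R) (hss : ∀ A ∈ R, ¬ p ∣ Nat.card A)
    (hsum : ∑ A ∈ R, (Nat.card A - 2) = v) :
    ∃ A ∈ R, R = conjs A ∧ ∃ a, 2 ≤ a ∧ Nat.card A = 2 * a ∧
      a * (r * q + 2) = r * d * q + 2 * a * r := by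
  have hvpos := Arith.rest_pos hr hd hv
  have hvlt := Arith.rest_lt hq hv
  obtain ⟨A, hA⟩ : ∃ A, A ∈ R := by
    by_contra h
    push Not at h
    rw [Finset.eq_empty_of_forall_notMem h, Finset.sum_empty] at hsum
    omega
  have hw : ∀ B ∈ R, Nat.card G ≤ 4 * weight B := by
    intro B hB
    have h4 := four_le hι hz hz1 (hR hB)
    have := card_conjs_mul B
    rcases Orbits.card_normalizer p hι hp2 (hR hB) (hss B hB) with h | h <;> rw [h] at this
    · exact Arith.weight_bound (i := 1) (by norm_num) h4 (by rw [one_mul]; exact this)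
    · exact Arith.weight_bound le_rfl h4 this
  have hsplit : weight A + ∑ B ∈ R \ conjs A, (Nat.card B - 2) = v := by
    rw [← sum_conjs, add_comm, Finset.sum_sdiff (hinv A hA), hsum]
  have hR' : R = conjs A := by
    refine (Finset.Subset.antisymm (fun B hB => ?_) (hinv A hA))
    by_contra hBA
    have hsub : conjs B ⊆ R \ conjs A := by
      intro C hC
      refine Finset.mem_sdiff.2 ⟨hinv B hB hC, fun hCA => hBA ?_⟩
      rw [← conjs_eq hCA, conjs_eq hC]
      exact self_mem B
    have h1 : weight B ≤ ∑ C ∈ R \ conjs A, (Nat.card C - 2) := by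
      rw [← sum_conjs]
      exact Finset.sum_le_sum_of_subset hsub
    have h2 := hw A hA
    have h3 := hw B hB
    rw [hG] at h2 h3
    have h4 : 2 * r * d * q = 2 * (r * d * q) := by ring
    omega
  refine ⟨A, hA, hR', ?_⟩
  have h4 := four_le hι hz hz1 (hR hA)
  have hwA : weight A = v := by
    rw [← sum_conjs, ← hR', hsum]
  have htwo : Nat.card (Subgroup.normalizer (A : Set G)) = 2 * Nat.card A := by
    rcases Orbits.card_normalizer p hι hp2 (hR hA) (hss A hA) with h | h
    · exfalso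
      have h1 := card_conjs_mul A
      rw [h] at h1
      have h2 : Nat.card G ≤ 2 * weight A := Arith.weight_bound_one h4 h1
      rw [hG, hwA] at h2
      have h4 : 2 * r * d * q = 2 * (r * d * q) := by ring
      omega
    · exact h
  obtain ⟨x, hx, hxA⟩ := mem_cents.1 (hR hA)
  obtain ⟨a, ha⟩ : 2 ∣ Nat.card A := by
    rw [← orderOf_eq_prime (x := z) (p := 2) (by rw [pow_two]; exact hz.sq_eq_one hι) hz1]
    refine Subgroup.orderOf_dvd_natCard A ?_
    rw [← hxA]
    exact Subgroup.mem_centralizer_singleton_iff.2 (hz.commute hι x).symm.eq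
  refine ⟨a, by omega, ha, ?_⟩
  have h1 := card_conjs_mul A
  rw [htwo, ha, hG] at h1
  refine Arith.orbit_equation (by omega) hv h1 ?_
  rw [← ha]
  exact hwA

variable (P : Sylow p G)

/-- The class equation: either `P` is transitive on the other Sylow subgroups or we are in the
exceptional situation of `2 A₅`. -/
theorem dichotomy (hP : ∀ x ∈ P, mat ι x 1 0 = 0 ∧ mat ι x 0 0 = 1)
    (hr : 1 < Nat.card (Sylow p G)) :
    Nat.card (Sylow p G) = Nat.card (P : Subgroup G) + 1 ∨
      (Nat.card (P : Subgroup G) = 3 ∧ Nat.card G = 120 ∧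
        ∃ A₀ ∈ cents ι, Nat.card A₀ = 4 ∧
          Nat.card (Subgroup.normalizer (A₀ : Set G)) = 8 ∧
          ∀ A ∈ cents ι, A ∈ conjs A₀ ∨ Nat.card A = 6 ∨ Nat.card A = 10) := by
  set q := Nat.card (P : Subgroup G) with hqdef
  set r := Nat.card (Sylow p G) with hrdef
  obtain ⟨k, hk⟩ := Transitive.exists_natCard_sylow p hι hp2 P
  rw [← hqdef, ← hrdef] at hk
  have hk1 : 1 ≤ k := by
    rcases Nat.eq_zero_or_pos k with h | h
    · subst h; omega
    · exact h
  have hne : (P : Subgroup G) ≠ ⊥ := by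
    intro h
    obtain ⟨Q, Q', hQ⟩ := (Finite.one_lt_card_iff_nontrivial.1 hr).exists_pair_ne
    refine hQ (Sylow.ext ?_)
    have hQ1 : ∀ S : Sylow p G, (S : Subgroup G) = ⊥ := by
      intro S
      obtain ⟨g, rfl⟩ := MulAction.exists_smul_eq G P S
      rw [Sylow.coe_subgroup_smul, h, Subgroup.smul_bot]
    rw [hQ1, hQ1]
  obtain ⟨⟨u, hu⟩, hu1'⟩ := Subgroup.ne_bot_iff_exists_ne_one.1 hne
  have hu1 : u ≠ 1 := fun h => hu1' (Subtype.ext h)
  have hq : 3 ≤ q := by
    obtain ⟨m, hm⟩ := IsPGroup.iff_card.1 P.isPGroup'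
    rcases m with _ | m
    · exact absurd (Subgroup.card_eq_one.1 (by rw [hm, pow_zero])) hne
    · have h3 : 3 ≤ p := by
        have := hp.out.two_le
        omega
      rw [hqdef, hm]
      exact h3.trans (Nat.le_self_pow m.succ_ne_zero p)
  set AP := Subgroup.centralizer ({u} : Set G) with hAP
  have hAPc : Nat.card AP = 2 * q := Borel.natCard_centralizer p hι hp2 hu hu1 hz hz1
  obtain ⟨d, hd⟩ := Orbits.card_normalizer_sylow p hι hp2 P hu hu1
  rw [← hAP] at hd
  have hdq : d + 1 ≤ q := Orbits.succ_le p hι hp2 P hu hu1 hd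
  have hG : Nat.card G = 2 * r * d * q := by
    have h := Subgroup.index_mul_card (Subgroup.normalizer ((P : Subgroup G) : Set G))
    have e : (Subgroup.normalizer ((P : Subgroup G) : Set G)).index = r :=
      (Sylow.card_eq_index_normalizer P).symm
    rw [hd, hAPc, e] at h
    rw [← h]
    ring
  have hd1 : 1 ≤ d := by
    rcases Nat.eq_zero_or_pos d with h | h
    · have : 0 < Nat.card G := Nat.card_pos
      rw [hG, h] at this
      simp at this
    · exact h
  have hAPmem : AP ∈ cents ι :=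
    mem_cents.2 ⟨u, Borel.not_cen_of_mem p hι hp2 hu hu1, rfl⟩
  have hTP : conjs AP ⊆ cents ι := conjs_subset hι hAPmem
  have hwP : weight AP = r * (2 * q - 2) := by
    rw [weight, Orbits.card_conjs_sylow p hι hp2 P hu hu1, hAPc]
  have hsum := sum_cents hι hz hz1
  rw [← Finset.sum_sdiff hTP, sum_conjs, hwP, hG] at hsum
  set R₀ := cents ι \ conjs AP with hR₀
  have hsub : R₀ ⊆ cents ι := Finset.sdiff_subset
  have hinv : ∀ A ∈ R₀, conjs A ⊆ R₀ := by
    intro A hA B hB
    rw [hR₀, Finset.mem_sdiff] at hA ⊢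
    refine ⟨conjs_subset hι hA.1 hB, fun hBP => hA.2 ?_⟩
    rw [← conjs_eq hBP, conjs_eq hB]
    exact self_mem A
  have hss : ∀ A ∈ R₀, ¬ p ∣ Nat.card A := by
    intro A hA h
    rw [hR₀, Finset.mem_sdiff] at hA
    exact hA.2 (Orbits.mem_conjs_of_dvd p hι hp2 P hu hu1 hA.1 h)
  obtain ⟨q', hq'⟩ : ∃ q', q = q' + 1 := ⟨q - 1, by omega⟩
  have e1 : r * (2 * q - 2) + 2 * r = 2 * (r * q) := by
    rw [hq', show 2 * (q' + 1) - 2 = 2 * q' by omega]; ring
  have e2 : 2 * r * d * q = 2 * (r * d * q) := by ring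
  have e3 : 2 ≤ r * d * q := by
    calc 2 ≤ r * 1 * 1 := by omega
      _ ≤ r * d * q := by gcongr <;> omega
  rcases Nat.lt_or_ge d 2 with hd2 | hd2
  · left
    obtain rfl : d = 1 := by omega
    set v := ∑ A ∈ R₀, (Nat.card A - 2) with hv'
    have hv : v + r * q + 2 = r * 1 * q + 2 * r := by
      simp only [mul_one] at *
      omega
    obtain ⟨A, hA, -, a, ha2, ha, heq⟩ :=
      single_orbit p hι hp2 hz hz1 hG (by omega) le_rfl hq hv R₀ hsub hinv hss hv'.symm
    rcases Arith.main heq hk hk1 hq hdq (by omega) with h | h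
    · rw [hk, h]; ring
    · omega
  · obtain ⟨A₀, hA₀, hA₀p, hA₀c, hA₀n⟩ := Orbits.exists_torus p hι hp2 P hu hu1 hP hz hz1 hd hd2
    have hA₀R : A₀ ∈ R₀ := Finset.mem_sdiff.2 ⟨hA₀, hA₀n⟩
    set R₁ := R₀ \ conjs A₀ with hR₁
    have hinv₁ : ∀ A ∈ R₁, conjs A ⊆ R₁ := by
      intro A hA B hB
      rw [hR₁, Finset.mem_sdiff] at hA ⊢
      refine ⟨hinv A hA.1 hB, fun hBP => hA.2 ?_⟩
      rw [← conjs_eq hBP, conjs_eq hB]
      exact self_mem A
    have hss₁ : ∀ A ∈ R₁, ¬ p ∣ Nat.card A := fun A hA => hss A (Finset.sdiff_subset hA)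
    have hsub₁ : R₁ ⊆ cents ι := Finset.sdiff_subset.trans hsub
    rw [← Finset.sum_sdiff (hinv A₀ hA₀R), sum_conjs, weight, hA₀c, ← hR₁] at hsum
    set v := ∑ A ∈ R₁, (Nat.card A - 2) with hv'
    have h0 := card_conjs_mul A₀
    obtain ⟨d', hd'⟩ : ∃ d', d = d' + 1 := ⟨d - 1, by omega⟩
    have e4 : (conjs A₀).card * (2 * d - 2) + 2 * (conjs A₀).card =
        2 * ((conjs A₀).card * d) := by
      rw [hd', show 2 * (d' + 1) - 2 = 2 * d' by omega]; ring
    rcases Orbits.card_normalizer p hι hp2 hA₀ hA₀p with hi | hi <;>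
      rw [hi, hA₀c, hG] at h0
    · exfalso
      have h0' : (conjs A₀).card * d = r * d * q := by linarith
      have h0'' : (conjs A₀).card = r * q :=
        Nat.eq_of_mul_eq_mul_right hd1 (h0'.trans (by ring))
      have hv : v + 2 = 2 * r := by omega
      obtain ⟨A, hA⟩ : ∃ A, A ∈ R₁ := by
        by_contra h
        push Not at h
        rw [hv', Finset.eq_empty_of_forall_notMem h, Finset.sum_empty] at hv
        omega
      have hle : weight A ≤ v := by
        rw [← sum_conjs]
        exact Finset.sum_le_sum_of_subset (hinv₁ A hA)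
      have h4 := four_le hι hz hz1 (hsub₁ hA)
      have hb : Nat.card G ≤ 4 * weight A := by
        have := card_conjs_mul A
        rcases Orbits.card_normalizer p hι hp2 (hsub₁ hA) (hss₁ A hA) with h | h <;>
          rw [h] at this
        · exact Arith.weight_bound (i := 1) (by norm_num) h4 (by rw [one_mul]; exact this)
        · exact Arith.weight_bound le_rfl h4 this
      rw [hG] at hb
      have e5 : r * 4 ≤ r * d * q := by
        rw [mul_assoc]; gcongr; nlinarith
      omega
    · have h0' : 2 * ((conjs A₀).card * d) = r * d * q := by linarith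
      have h0'' : 2 * (conjs A₀).card = r * q :=
        Nat.eq_of_mul_eq_mul_right hd1 (by linarith)
      have hv : v + r * q + 2 = r * d * q + 2 * r := by omega
      obtain ⟨A₁, hA₁, hR₁e, a, ha2, ha, heq⟩ :=
        single_orbit p hι hp2 hz hz1 hG (by omega) hd1 hq hv R₁ hsub₁ hinv₁ hss₁ hv'.symm
      rcases Arith.main heq hk hk1 hq hdq (by omega) with h | ⟨h3, h2, hk3, ha5⟩
      · left; rw [hk, h]; ring
      · right
        refine ⟨h3, ?_, A₀, hA₀, ?_, ?_, ?_⟩
        · rw [hG, hk, h3, h2, hk3]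
        · rw [hA₀c, h2]
        · rw [hi, hA₀c, h2]
        · intro A hA
          by_cases h1 : A ∈ conjs AP
          · right; left
            obtain ⟨g, rfl⟩ := mem_conjs.1 h1
            rw [natCard_conj, hAPc, h3]
          · by_cases h2' : A ∈ conjs A₀
            · exact Or.inl h2'
            · right; right
              have : A ∈ R₁ := Finset.mem_sdiff.2 ⟨Finset.mem_sdiff.2 ⟨hA, h1⟩, h2'⟩
              rw [hR₁e] at this
              obtain ⟨g, rfl⟩ := mem_conjs.1 this
              rw [natCard_conj, ha, ha5]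

/-- In the exceptional situation the normaliser of a fours-torus normaliser gives `SL₂(3)`. -/
theorem exceptional (hP : ∀ x ∈ P, mat ι x 1 0 = 0 ∧ mat ι x 0 0 = 1)
    (h3 : Nat.card (P : Subgroup G) = 3) (hG : Nat.card G = 120) {A₀ : Subgroup G}
    (hA₀ : A₀ ∈ cents ι) (hA₀c : Nat.card A₀ = 4)
    (hN : Nat.card (Subgroup.normalizer (A₀ : Set G)) = 8)
    (hall : ∀ A ∈ cents ι, A ∈ conjs A₀ ∨ Nat.card A = 6 ∨ Nat.card A = 10) : HasSL2 p G := by
  have hp3 : p = 3 := by
    obtain ⟨m, hm⟩ := IsPGroup.iff_card.1 P.isPGroup'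
    rw [h3] at hm
    rcases m with _ | m
    · simp at hm
    · exact (Nat.prime_dvd_prime_iff_eq hp.out Nat.prime_three).1
        (hm ▸ dvd_pow_self p m.succ_ne_zero)
  set Q := Subgroup.normalizer (A₀ : Set G) with hQ
  have hkey : ∀ x ∈ Q, ¬ Cen ι x →
      Nat.card (Subgroup.centralizer ({x} : Set G)) = 4 ∧
        Subgroup.normalizer ((Subgroup.centralizer ({x} : Set G) : Subgroup G) : Set G) = Q ∧
        Subgroup.centralizer ({x} : Set G) ∈ conjs A₀ := by
    intro x hxQ hx
    set C := Subgroup.centralizer ({x} : Set G) with hC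
    have hxC : x ∈ C := Subgroup.mem_centralizer_singleton_iff.2 rfl
    have hx8 : orderOf x ∣ 8 := hN ▸ Subgroup.orderOf_dvd_natCard Q hxQ
    have hxc : orderOf x ∣ Nat.card C := Subgroup.orderOf_dvd_natCard C hxC
    have hsq : ∀ n, orderOf x ∣ n → n ∣ 2 → False := fun n h1 h2 =>
      hx (cen_of_sq p hι hp2 (by
        rw [← pow_two]; exact orderOf_dvd_iff_pow_eq_one.1 (h1.trans h2)))
    have hmem : C ∈ conjs A₀ := by
      rcases hall C (mem_cents.2 ⟨x, hx, rfl⟩) with h | h | h
      · exact h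
      · exact (hsq _ (Nat.dvd_gcd hx8 (h ▸ hxc)) (by norm_num)).elim
      · exact (hsq _ (Nat.dvd_gcd hx8 (h ▸ hxc)) (by norm_num)).elim
    obtain ⟨g, hg⟩ := mem_conjs.1 hmem
    have hc4 : Nat.card C = 4 := by rw [← hg, natCard_conj, hA₀c]
    have hord : orderOf x = 4 := by
      have h4 := hc4 ▸ hxc
      rcases (Nat.dvd_prime_pow Nat.prime_two).1 (show orderOf x ∣ 2 ^ 2 from h4) with ⟨m, hm, he⟩
      interval_cases m
      · exact (hsq 1 (he ▸ dvd_rfl) (by norm_num)).elim
      · exact (hsq 2 (he ▸ dvd_rfl) dvd_rfl).elim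
      · exact he
    have hCz : C = Subgroup.zpowers x :=
      (Subgroup.eq_of_le_of_card_ge (Subgroup.zpowers_le.2 hxC)
        (by rw [hc4, Nat.card_zpowers, hord])).symm
    have hCQ : C ≤ Q := hCz ▸ Subgroup.zpowers_le.2 hxQ
    refine ⟨hc4, ?_, hmem⟩
    have hidx : (C.subgroupOf Q).index = 2 := by
      have h := Subgroup.card_mul_index (C.subgroupOf Q)
      rw [Nat.card_congr (Subgroup.subgroupOfEquivOfLe hCQ).toEquiv, hc4, hN] at h
      omega
    have hnorm := Subgroup.normal_of_index_eq_two hidx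
    have hle : Q ≤ Subgroup.normalizer (C : Set G) :=
      (Subgroup.normal_subgroupOf_iff_le_normalizer hCQ).1 hnorm
    refine (Subgroup.eq_of_le_of_card_ge hle ?_).symm
    have h1 := card_conjs_mul C
    have h2 := card_conjs_mul A₀
    rw [conjs_eq hmem] at h1
    rw [← h2] at h1
    have hpos : 0 < (conjs A₀).card := Finset.card_pos.2 ⟨_, self_mem A₀⟩
    exact (Nat.eq_of_mul_eq_mul_left hpos h1).le
  set K := Subgroup.normalizer (Q : Set G) with hK
  set SQ := (conjs A₀).filter fun A : Subgroup G => Subgroup.normalizer (A : Set G) = Q with hSQ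
  -- three tori in `Q`
  have hSQ3 : SQ.card = 3 := by
    set X := Finset.univ.filter fun x => x ∈ Q ∧ ¬ Cen ι x with hX
    have hzQ : z ∈ Q := Subgroup.le_normalizer (by
      obtain ⟨y, -, rfl⟩ := mem_cents.1 hA₀
      exact Subgroup.mem_centralizer_singleton_iff.2 (hz.commute hι y).symm.eq)
    have hX6 : X.card = 6 := by
      have h2 := Finset.card_filter_add_card_filter_not
        (s := Finset.univ.filter fun x => x ∈ Q) (fun x => Cen ι x)
      rw [Finset.filter_filter, card_cen hι hz hz1 Q hzQ, Finset.filter_filter,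
        ← Fintype.card_subtype (fun x => x ∈ Q), ← Nat.card_eq_fintype_card, hN] at h2
      rw [hX]
      omega
    have himg : X.image (fun x => Subgroup.centralizer ({x} : Set G)) = SQ := by
      ext A
      simp only [hX, hSQ, Finset.mem_image, Finset.mem_filter, Finset.mem_univ, true_and]
      constructor
      · rintro ⟨x, ⟨h1, h2⟩, rfl⟩
        exact ⟨(hkey x h1 h2).2.2, (hkey x h1 h2).2.1⟩
      · rintro ⟨h1, h2⟩
        obtain ⟨x, hx, rfl⟩ := mem_cents.1 (conjs_subset hι hA₀ h1)
        exact ⟨x, ⟨h2 ▸ Subgroup.le_normalizer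
          (Subgroup.mem_centralizer_singleton_iff.2 rfl), hx⟩, rfl⟩
    have hfib : ∀ A ∈ X.image (fun x => Subgroup.centralizer ({x} : Set G)),
        (X.filter fun x => Subgroup.centralizer ({x} : Set G) = A).card = 2 := by
      intro A hA
      obtain ⟨x, hx, rfl⟩ := Finset.mem_image.1 hA
      simp only [hX, Finset.mem_filter, Finset.mem_univ, true_and] at hx
      have hk' := hkey x hx.1 hx.2
      have := card_fibre hι hz hz1 (mem_cents.2 ⟨x, hx.2, rfl⟩)
      rw [hk'.1] at this
      refine Eq.trans ?_ (this.trans (by norm_num))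
      congr 1
      ext y
      simp only [hX, Finset.mem_filter, Finset.mem_univ, true_and]
      refine ⟨fun h => ⟨h.1.2, h.2⟩, fun h => ⟨⟨?_, h.1⟩, h.2⟩⟩
      rw [← hk'.2.1]
      refine Subgroup.le_normalizer ?_
      rw [← h.2]
      exact Subgroup.mem_centralizer_singleton_iff.2 rfl
    have h2 := Finset.card_eq_sum_card_image (fun x => Subgroup.centralizer ({x} : Set G)) X
    rw [Finset.sum_congr rfl hfib, Finset.sum_const, smul_eq_mul, himg, hX6] at h2
    omega
  -- the normaliser of `Q` has order 24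
  have hK24 : Nat.card K = 24 := by
    have hmapsK : ∀ g : G, g ∈ K ↔ MulAut.conj g • A₀ ∈ SQ := by
      intro g
      rw [hSQ, Finset.mem_filter, ← conj_smul_eq_iff (A := Q)]
      have e : Subgroup.normalizer ((MulAut.conj g • A₀ : Subgroup G) : Set G) =
          MulAut.conj g • Q := by
        ext w
        rw [Subgroup.mem_pointwise_smul_iff_inv_smul_mem, hQ, ← conj_smul_eq_iff,
          ← conj_smul_eq_iff, ← map_inv, MulAut.smul_def, MulAut.conj_apply]
        simp only [map_mul, mul_smul, map_inv, inv_inv, inv_smul_eq_iff]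
      rw [e]
      exact ⟨fun h => ⟨mem_conjs.2 ⟨g, rfl⟩, h⟩, fun h => h.2⟩
    have h : ∀ B ∈ SQ, ((Finset.univ.filter fun g : G => g ∈ K).filter
        fun g => MulAut.conj g • A₀ = B).card = 8 := by
      intro B hB
      obtain ⟨g₀, hg₀⟩ := mem_conjs.1 (Finset.mem_filter.1 hB).1
      have e : ((Finset.univ.filter fun g : G => g ∈ K).filter
          fun g => MulAut.conj g • A₀ = B) =
          Finset.univ.filter fun g : G => MulAut.conj g • A₀ = B := by
        ext g
        simp only [Finset.mem_filter, Finset.mem_univ, true_and, and_iff_right_iff_imp]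
        intro hg
        rw [hmapsK, hg]
        exact hB
      rw [e, ← Fintype.card_subtype, ← Nat.card_eq_fintype_card, ← hN, hQ]
      refine Nat.card_congr ((Equiv.mulLeft g₀⁻¹).subtypeEquiv fun g => ?_)
      rw [Equiv.coe_mulLeft, ← conj_smul_eq_iff, map_mul, map_inv, mul_smul, inv_smul_eq_iff, hg₀]
    have himg : (Finset.univ.filter fun g : G => g ∈ K).image (fun g => MulAut.conj g • A₀) =
        SQ := by
      ext B
      simp only [Finset.mem_image, Finset.mem_filter, Finset.mem_univ, true_and]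
      refine ⟨fun ⟨g, hg, hgB⟩ => hgB ▸ (hmapsK g).1 hg, fun hB => ?_⟩
      obtain ⟨g, rfl⟩ := mem_conjs.1 (Finset.mem_filter.1 hB).1
      exact ⟨g, (hmapsK g).2 hB, rfl⟩
    have h2 := Finset.card_eq_sum_card_image (fun g : G => MulAut.conj g • A₀)
      (Finset.univ.filter fun g : G => g ∈ K)
    rw [himg, Finset.sum_congr rfl h, Finset.sum_const, smul_eq_mul, hSQ3,
      ← Fintype.card_subtype, ← Nat.card_eq_fintype_card] at h2
    exact h2
  -- its Sylow 3-subgroups
  let R : Sylow p K := default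
  have hR3 : Nat.card (R : Subgroup K) = 3 := by
    rw [Sylow.card_eq_multiplicity R, hK24, hp3]
    rw [show Nat.factorization 24 3 = 1 by
      rw [show (24 : ℕ) = 3 * 8 by norm_num, Nat.factorization_mul (by norm_num) (by norm_num)]
      simp [Nat.Prime.factorization_self Nat.prime_three,
        Nat.factorization_eq_zero_of_not_dvd (show ¬ 3 ∣ 8 by norm_num)]]
    rfl
  obtain ⟨S, hS⟩ := (R.isPGroup'.map K.subtype).exists_le_sylow
  obtain ⟨g, hg⟩ := MulAction.exists_smul_eq G P S
  have hRP : ∀ x ∈ R, g⁻¹ * (x : G) * g ∈ (P : Subgroup G) := by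
    intro x hx
    have h2 : (x : G) ∈ ((g • P : Sylow p G) : Subgroup G) :=
      hg ▸ hS (Subgroup.mem_map_of_mem _ hx)
    rw [Sylow.coe_subgroup_smul, Subgroup.mem_pointwise_smul_iff_inv_smul_mem] at h2
    simpa [MulAut.smul_def] using h2
  let ι' : K →* SL(2, F) := (ι.comp (MulAut.conj g⁻¹).toMonoidHom).comp K.subtype
  have hι' : Function.Injective ι' :=
    (hι.comp (MulAut.conj g⁻¹).injective).comp Subtype.coe_injective
  have hR' : ∀ x ∈ R, mat ι' x 1 0 = 0 ∧ mat ι' x 0 0 = 1 := by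
    intro x hx
    have := hP _ (hRP x hx)
    simpa [mat, ι'] using this
  have hRne : (R : Subgroup K) ≠ ⊥ := by
    intro h
    rw [h, Subgroup.card_bot] at hR3
    omega
  refine HasSL2.of_hom K.subtype Subtype.coe_injective
    (Transitive.hasSL2_of_card p hι' hp2 R hR' hRne ?_)
  have hdiv : Nat.card (Sylow p K) ∣ 8 := by
    have h1 := R.card_dvd_index
    have h2 := Subgroup.card_mul_index (R : Subgroup K)
    rw [hR3, hK24] at h2
    rwa [show (R : Subgroup K).index = 8 by omega] at h1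
  have hmod := card_sylow_modEq_one p K
  subst hp3
  obtain ⟨m, hm, he⟩ := (Nat.dvd_prime_pow Nat.prime_two).1
    (show Nat.card (Sylow 3 K) ∣ 2 ^ 3 from hdiv)
  rw [Nat.ModEq, he] at hmod
  interval_cases m <;> simp at hmod ⊢
  · -- a normal Sylow subgroup would commute with `Q`
    exfalso
    have hsub : Subsingleton (Sylow 3 K) := Finite.card_le_one_iff_subsingleton.1 he.le
    have hRn : (R : Subgroup K).Normal := Sylow.normal_of_subsingleton R
    have hQn : (Q.subgroupOf K).Normal := Subgroup.normal_in_normalizer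
    have hQK : Q ≤ K := Subgroup.le_normalizer
    have hdis : Disjoint (Q.subgroupOf K) (R : Subgroup K) := by
      rw [disjoint_iff]
      refine Subgroup.inf_eq_bot_of_coprime ?_
      rw [Nat.card_congr (Subgroup.subgroupOfEquivOfLe hQK).toEquiv, hN, hR3]
      norm_num
    obtain ⟨⟨w, hw⟩, hw1⟩ := Subgroup.ne_bot_iff_exists_ne_one.1 hRne
    obtain ⟨y, hy, hyc⟩ : ∃ y ∈ Q, ¬ Cen ι y := by
      obtain ⟨y, hy, he'⟩ := mem_cents.1 hA₀
      exact ⟨y, Subgroup.le_normalizer (he' ▸ Subgroup.mem_centralizer_singleton_iff.2 rfl), hy⟩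
    have hc := Subgroup.commute_of_normal_of_disjoint _ _ hQn hRn hdis ⟨y, hQK hy⟩ w
      (Subgroup.mem_subgroupOf.2 hy) hw
    have hwC : (w : G) ∈ Subgroup.centralizer ({y} : Set G) :=
      Subgroup.mem_centralizer_singleton_iff.2 (congrArg Subtype.val hc.eq).symm
    have h4 := Subgroup.orderOf_dvd_natCard _ hwC
    rw [(hkey y hy hyc).1] at h4
    have h3' : orderOf (w : G) ∣ 3 := by
      rw [Subgroup.orderOf_coe, ← hR3]
      exact Subgroup.orderOf_dvd_natCard _ hw
    have h1 := Nat.eq_one_of_dvd_coprimes (by norm_num : Nat.Coprime 3 4) h3' h4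
    exact hw1 (Subtype.ext (Subtype.ext (orderOf_eq_one_iff.1 h1)))
  all_goals simp only [← Nat.card_eq_fintype_card]; omega

theorem hasSL2_of_normalized (hP : ∀ x ∈ P, mat ι x 1 0 = 0 ∧ mat ι x 0 0 = 1)
    (hr : 1 < Nat.card (Sylow p G)) : HasSL2 p G := by
  rcases dichotomy p hι hp2 hz hz1 P hP hr with h | ⟨h3, hG, A₀, h1, h2, h4, h5⟩
  · refine Transitive.hasSL2_of_card p hι hp2 P hP ?_ h
    intro hb
    rw [hb, Subgroup.card_bot] at h
    have h2 := card_sylow_modEq_one p G
    rw [h] at h2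
    have : p ∣ 1 := (Nat.modEq_iff_dvd' (by norm_num)).1 h2.symm
    exact hp.out.one_lt.ne' (Nat.dvd_one.1 this)
  · exact exceptional p hι hp2 hz hz1 P hP h3 hG h1 h2 h4 h5

end Cfsg.Agent.Techniques.SL2.Dickson
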