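import Cfsg.Agent.Techniques.SL2.Borel

/-!
# A Sylow subgroup transitive on the others forces `SL₂(p)`
-/

namespace Cfsg.Agent.Techniques.SL2.Transitive

open Matrix
open scoped MatrixGroups Pointwise
open Cfsg.Agent.Techniques.SL2.Basic

/-- The group has a subgroup isomorphic to `SL₂(p)`. -/
def HasSL2 (p : ℕ) (G : Type*) [Group G] : Prop :=
  ∃ φ : SL(2, ZMod p) →* G, Function.Injective φ

theorem HasSL2.of_hom {p : ℕ} {G K : Type*} [Group G] [Group K] (f : G →* K)
    (hf : Function.Injective f) (h : HasSL2 p G) : HasSL2 p K := by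
  obtain ⟨φ, hφ⟩ := h
  exact ⟨f.comp φ, hf.comp hφ⟩

variable {F : Type*} [Field F] [Fintype F] {G : Type*} [Group G] [Finite G]
variable {ι : G →* SL(2, F)} (p : ℕ) [hp : Fact p.Prime] [CharP F p]
variable (hι : Function.Injective ι) (hp2 : p ≠ 2)
include hι hp2

theorem smul_ne {P Q : Sylow p G} {u : G} (hu : u ∈ P) (h1 : u ≠ 1) (hQ : Q ≠ P) : u • Q ≠ Q := by
  intro h
  have h2 : u ∈ Subgroup.normalizer ((Q : Subgroup G) : Set G) :=
    Sylow.smul_eq_iff_mem_normalizer.1 h
  obtain ⟨k, hk⟩ := P.isPGroup' ⟨u, hu⟩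
  have hpu : IsPGroup p (Subgroup.zpowers u) := by
    obtain ⟨m, -, hm⟩ := (Nat.dvd_prime_pow hp.out).1
      (orderOf_dvd_of_pow_eq_one (congrArg Subtype.val hk : u ^ p ^ k = 1))
    exact IsPGroup.of_card (by rw [Nat.card_zpowers, hm])
  have h3 : u ∈ Subgroup.zpowers u ⊓ Subgroup.normalizer ((Q : Subgroup G) : Set G) :=
    ⟨Subgroup.mem_zpowers u, h2⟩
  have e : Subgroup.zpowers u ⊓ Subgroup.normalizer ((Q : Subgroup G) : Set G) =
      Subgroup.zpowers u ⊓ Q := hpu.inf_normalizer_sylow Q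
  rw [e] at h3
  exact hQ (Borel.sylow_eq_of_mem p hι hp2 h3.2 hu h1)

omit hι hp2 in
theorem smul_mem_ne {P Q : Sylow p G} {u : G} (hu : u ∈ P) (hQ : Q ≠ P) : u • Q ≠ P := by
  intro h
  refine hQ ?_
  have hP : u • P = P := Sylow.smul_eq_iff_mem_normalizer.2 (Subgroup.le_normalizer hu)
  exact MulAction.injective u (h.trans hP.symm)

/-- `P` acts freely on the other Sylow subgroups. -/
theorem exists_natCard_sylow (P : Sylow p G) :
    ∃ k, Nat.card (Sylow p G) = 1 + k * Nat.card (P : Subgroup G) := by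
  classical
  have : Fintype (Sylow p G) := Fintype.ofFinite _
  let S : SubMulAction (P : Subgroup G) (Sylow p G) :=
    { carrier := {Q | Q ≠ P}
      smul_mem' := fun u _ hQ => smul_mem_ne p u.2 hQ }
  have hfree : ∀ b : S, MulAction.stabilizer (P : Subgroup G) b = ⊥ := by
    intro b
    rw [Subgroup.eq_bot_iff_forall]
    intro u hu
    by_contra h1
    exact smul_ne p hι hp2 u.2 (fun h => h1 (Subtype.ext h)) b.2
      (congrArg Subtype.val (MulAction.mem_stabilizer_iff.1 hu))
  have hc := Nat.card_congr (MulAction.selfEquivOrbitsQuotientProd hfree)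
  rw [Nat.card_prod] at hc
  refine ⟨Nat.card (Quotient (MulAction.orbitRel (P : Subgroup G) S)), ?_⟩
  rw [← hc]
  have e := Nat.card_congr (Equiv.sumCompl fun Q : Sylow p G => Q = P)
  rw [Nat.card_sum] at e
  have e1 : Nat.card {Q : Sylow p G // Q = P} = 1 := by
    rw [Nat.card_eq_one_iff_unique]
    exact ⟨⟨fun a b => Subtype.ext (a.2.trans b.2.symm)⟩, ⟨⟨P, rfl⟩⟩⟩
  rw [← e, e1]
  rfl

/-- If there are `|P| + 1` Sylow subgroups then `P` is transitive on the others. -/
theorem exists_smul_eq (P : Sylow p G)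
    (hcard : Nat.card (Sylow p G) = Nat.card (P : Subgroup G) + 1) {Q R : Sylow p G}
    (hQ : Q ≠ P) (hR : R ≠ P) : ∃ u ∈ P, u • Q = R := by
  classical
  have : Fintype (Sylow p G) := Fintype.ofFinite _
  have : Fintype G := Fintype.ofFinite _
  let f : ↥(P : Subgroup G) → {Q : Sylow p G // Q ≠ P} :=
    fun u => ⟨(u : G) • Q, smul_mem_ne p u.2 hQ⟩
  have hf : Function.Injective f := by
    intro a b h
    have h' : (a : G) • Q = (b : G) • Q := congrArg Subtype.val h
    by_contra hne
    refine smul_ne p hι hp2 (P := P) (Q := Q) (u := (b : G)⁻¹ * a) (mul_mem (inv_mem b.2) a.2) ?_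
      hQ (by rw [mul_smul, inv_smul_eq_iff, h'])
    rw [Ne, inv_mul_eq_one]
    exact fun h2 => hne (Subtype.ext h2.symm)
  have hc : Fintype.card (P : Subgroup G) = Fintype.card {Q : Sylow p G // Q ≠ P} := by
    have e := Nat.card_congr (Equiv.sumCompl fun Q : Sylow p G => Q = P)
    have e1 : Nat.card {Q : Sylow p G // Q = P} = 1 := by
      rw [Nat.card_eq_one_iff_unique]
      exact ⟨⟨fun a b => Subtype.ext (a.2.trans b.2.symm)⟩, ⟨⟨P, rfl⟩⟩⟩
    rw [Nat.card_sum, e1, hcard] at e
    rw [← Nat.card_eq_fintype_card, ← Nat.card_eq_fintype_card]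
    have : Nat.card {a : Sylow p G // ¬ a = P} = Nat.card {Q : Sylow p G // Q ≠ P} := rfl
    omega
  obtain ⟨u, hu⟩ := ((Fintype.bijective_iff_injective_and_card f).2 ⟨hf, hc⟩).2 ⟨R, hR⟩
  exact ⟨u, u.2, congrArg Subtype.val hu⟩

omit [Finite G] hp2 in
/-- An upper and a lower unipotent with reciprocal entries generate `SL₂(p)`. -/
theorem hasSL2_of_pair {a b : G} {s : F} (hs : s ≠ 0) (ha : mat ι a = !![1, s; 0, 1])
    (hb : mat ι b = !![1, 0; s⁻¹, 1]) : HasSL2 p G := by
  set f : ZMod p →+* F := ZMod.castHom (dvd_refl p) F with hf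
  let φm : Matrix (Fin 2) (Fin 2) (ZMod p) → Matrix (Fin 2) (Fin 2) F := fun M =>
    !![f (M 0 0), s * f (M 0 1); s⁻¹ * f (M 1 0), f (M 1 1)]
  have hdet : ∀ M : SL(2, ZMod p), (φm M).det = 1 := by
    intro M
    have h := congrArg f (Matrix.SpecialLinearGroup.det_coe M)
    rw [det_fin_two, map_sub, map_mul, map_mul, map_one] at h
    simp only [φm, det_fin_two_of]
    field_simp
    linear_combination h
  let E : SL(2, ZMod p) →* SL(2, F) :=
    { toFun := fun M => ⟨φm M, hdet M⟩
      map_one' := by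
        refine Classical.GL2.sl_ext ?_
        simp [φm, Matrix.one_fin_two]
      map_mul' := fun M N => by
        refine Classical.GL2.sl_ext ?_
        show φm _ = φm M * φm N
        simp only [Matrix.SpecialLinearGroup.coe_mul, φm]
        ext i j
        fin_cases i <;> fin_cases j <;>
          simp [Matrix.mul_apply, Fin.sum_univ_two] <;> field_simp }
  have hinj : Function.Injective E := by
    intro M N h
    have h' : φm M = φm N := congrArg Subtype.val h
    refine Classical.GL2.sl_ext (Matrix.ext fun i j => f.injective ?_)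
    have := congrFun (congrFun h' i) j
    fin_cases i <;> fin_cases j <;> simp [φm, hs] at this ⊢ <;> exact this
  have hpow : ∀ (x : G) (N : Matrix (Fin 2) (Fin 2) F) (n : ℕ), mat ι x = 1 + N → N * N = 0 →
      mat ι (x ^ n) = 1 + (n : F) • N := by
    intro x N n hx hN
    rw [mat_pow, hx]
    induction n with
    | zero => simp
    | succ n ih =>
      rw [pow_succ, ih, add_mul, Matrix.one_mul, mul_add, Matrix.mul_one, smul_mul, hN, smul_zero,
        add_zero, Nat.cast_succ, add_smul, one_smul]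
      abel
  have hrange : ι.range.comap E = ⊤ := by
    refine Classical.Linear.eq_top_of_transvection_mem _ fun i j hij c => ?_
    obtain ⟨n, rfl⟩ : ∃ n : ℕ, c = n := ⟨c.val, (ZMod.natCast_rightInverse c).symm⟩
    rw [Subgroup.mem_comap]
    fin_cases i <;> fin_cases j <;> try exact absurd rfl hij
    · refine ⟨a ^ n, Classical.GL2.sl_ext ?_⟩
      rw [← mat, hpow a !![0, s; 0, 0] n (by rw [ha]; simp [one_fin_two])
        (by ext i j; fin_cases i <;> fin_cases j <;> simp)]
      show _ = φm _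
      simp [φm, Matrix.SpecialLinearGroup.transvection_coe, one_fin_two, mul_comm]
    · refine ⟨b ^ n, Classical.GL2.sl_ext ?_⟩
      rw [← mat, hpow b !![0, 0; s⁻¹, 0] n (by rw [hb]; simp [one_fin_two])
        (by ext i j; fin_cases i <;> fin_cases j <;> simp)]
      show _ = φm _
      simp [φm, Matrix.SpecialLinearGroup.transvection_coe, one_fin_two, mul_comm]
  have hmem : ∀ M, E M ∈ ι.range := fun M => by
    have : M ∈ ι.range.comap E := hrange ▸ Subgroup.mem_top M
    exact this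
  refine ⟨(MonoidHom.ofInjective hι).symm.toMonoidHom.comp (E.codRestrict ι.range hmem), ?_⟩
  exact (MonoidHom.ofInjective hι).symm.injective.comp fun M N h => hinj (congrArg Subtype.val h)

/-- If `P` is in upper unitriangular position and transitive on the other Sylow subgroups,
`SL₂(p)` is involved as a subgroup. -/
theorem hasSL2_of_normalized (P : Sylow p G) (hne : (P : Subgroup G) ≠ ⊥)
    (hP : ∀ x ∈ P, mat ι x 1 0 = 0 ∧ mat ι x 0 0 = 1)
    (hcard : Nat.card (Sylow p G) = Nat.card (P : Subgroup G) + 1)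
    {v : G} {c : F} (hc : c ≠ 0) (hv : mat ι v = !![1, 0; c, 1]) : HasSL2 p G := by
  have h2 := two_ne_zero' (F := F) p hp2
  have hv2 : mat ι (v * v) = !![1, 0; 2 * c, 1] := by
    rw [mat_mul, hv]; simp [two_mul]
  have hN : ∀ w : G, mat ι w 1 0 ≠ 0 → w • P ≠ P := fun w hw h =>
    hw ((Borel.mem_normalizer_iff p hι hP hne w).1 (Sylow.smul_eq_iff_mem_normalizer.1 h))
  obtain ⟨u, hu, hu'⟩ := exists_smul_eq p hι hp2 P hcard
    (hN v (by rw [hv]; simpa using hc)) (hN (v * v) (by rw [hv2]; simp [hc, h2]))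
  have hw : mat ι ((v * v)⁻¹ * (u * v)) 1 0 = 0 := by
    refine (Borel.mem_normalizer_iff p hι hP hne _).1 (Sylow.smul_eq_iff_mem_normalizer.1 ?_)
    rw [mul_smul, mul_smul u, inv_smul_eq_iff]
    exact hu'
  obtain ⟨h10, h00⟩ := hP u hu
  have hd := det_mat ι u
  rw [det_fin_two, h10, h00] at hd
  simp at hd
  set w := mat ι u 0 1 with hw'
  have hmu : mat ι u = !![1, w; 0, 1] := by
    ext i j
    fin_cases i <;> fin_cases j <;> simp [h10, h00, hd, hw']
  rw [mat_mul, mat_inv, mat_mul _ u, hv2, hv, hmu] at hw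
  simp [trace_fin_two, Matrix.mul_apply, Fin.sum_univ_two] at hw
  have hwc : 2 * c * w + 1 = 0 :=
    (mul_eq_zero.1 (by linear_combination -hw : c * (2 * c * w + 1) = 0)).resolve_left hc
  have hw0 : w ≠ 0 := fun h => one_ne_zero (by linear_combination hwc - 2 * c * h : (1 : F) = 0)
  refine hasSL2_of_pair p hι (a := u) (b := v ^ (p - 2)) hw0 hmu ?_
  have hn : ((p - 2 : ℕ) : F) = -2 := by
    rw [Nat.cast_sub hp.out.two_le, CharP.cast_eq_zero]; simp
  rw [mat_pow, pow_of_trace_two (by rw [sq_eq, trace_fin_two, hv]; norm_num) _, hn, hv]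
  have : w⁻¹ = -2 * c := inv_eq_of_mul_eq_one_right (by linear_combination -hwc)
  rw [this]
  simp [one_fin_two]

theorem hasSL2_of_card (P : Sylow p G) (hP : ∀ x ∈ P, mat ι x 1 0 = 0 ∧ mat ι x 0 0 = 1)
    (hne : (P : Subgroup G) ≠ ⊥)
    (hcard : Nat.card (Sylow p G) = Nat.card (P : Subgroup G) + 1) : HasSL2 p G := by
  obtain ⟨Q, hQ⟩ : ∃ Q : Sylow p G, Q ≠ P := by
    by_contra hh
    push Not at hh
    have : Subsingleton (Sylow p G) := ⟨fun a b => (hh a).trans (hh b).symm⟩
    have h1 : Nat.card (Sylow p G) ≤ 1 := Finite.card_le_one_iff_subsingleton.2 this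
    have h2 : 0 < Nat.card (P : Subgroup G) := Nat.card_pos
    omega
  obtain ⟨v, hv, hvP⟩ : ∃ v ∈ Q, v ∉ P := by
    by_contra hh
    push Not at hh
    exact hQ (Sylow.ext (Q.is_maximal' P.isPGroup' hh).symm)
  obtain ⟨k, hk⟩ := Q.isPGroup' ⟨v, hv⟩
  have hvk : v ^ p ^ k = 1 := congrArg Subtype.val hk
  have ht := trace_of_pow (ι := ι) p hvk
  have hd := det_mat ι v
  rw [trace_fin_two] at ht
  rw [det_fin_two] at hd
  have hg : mat ι v 1 0 ≠ 0 := by
    intro h
    refine hvP (Borel.mem_of_upper p hι hP h ?_)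
    rw [h] at hd
    have : (mat ι v 0 0 - 1) * (mat ι v 0 0 - 1) = 0 := by
      linear_combination (mat ι v 0 0) * ht - hd
    exact sub_eq_zero.1 (mul_self_eq_zero.1 this)
  set x := (1 - mat ι v 0 0) / mat ι v 1 0 with hx
  set ι' : G →* SL(2, F) :=
    (MulAut.conj (Classical.GL2.uniSL x)).toMonoidHom.comp ι with hι'
  have hm : ∀ y, mat ι' y = !![1, x; 0, 1] * mat ι y * !![1, -x; 0, 1] := by
    intro y
    simp only [mat, hι', MonoidHom.coe_comp, Function.comp_apply, MulEquiv.coe_toMonoidHom,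
      MulAut.conj_apply, Classical.GL2.uniSL_inv, Matrix.SpecialLinearGroup.coe_mul,
      Classical.GL2.coe_uniSL]
  refine hasSL2_of_normalized (ι := ι') p ((MulAut.conj _).injective.comp hι) hp2 P hne ?_ hcard
    (v := v) (c := mat ι v 1 0) hg ?_
  · intro y hy
    obtain ⟨a, b⟩ := hP y hy
    rw [hm]
    simp [Matrix.mul_apply, Matrix.vecMul, dotProduct, Fin.sum_univ_two, a, b]
  · rw [hm]
    have e1 : x * mat ι v 1 0 = 1 - mat ι v 0 0 := by rw [hx, div_mul_cancel₀ _ hg]
    clear_value x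
    refine Matrix.ext fun i j => ?_
    fin_cases i <;> fin_cases j <;> simp [Matrix.mul_apply, Matrix.vecMul, dotProduct, Fin.sum_univ_two]
    · linear_combination e1
    · refine mul_right_cancel₀ hg (Eq.trans ?_ (zero_mul _).symm)
      linear_combination (mat ι v 1 1 - 1 - x * mat ι v 1 0) * e1 + ht - hd
    · linear_combination ht - e1

end Cfsg.Agent.Techniques.SL2.Transitive
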