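import Cfsg.Agent.Techniques.SL2.Count
import Cfsg.Agent.Techniques.SL2.Transitive
import Cfsg.Agent.Techniques.SL2.Arith

/-!
# The orbits of centralisers in a finite subgroup of `SL₂`
-/

namespace Cfsg.Agent.Techniques.SL2.Orbits

open scoped MatrixGroups Pointwise _root_.Classical
open Cfsg.Agent.Techniques.SL2.Basic Cfsg.Agent.Techniques.SL2.Count

variable {F : Type*} [Field F] [Fintype F] {G : Type*} [Group G] [Fintype G]
variable {ι : G →* SL(2, F)} (p : ℕ) [hp : Fact p.Prime] [CharP F p]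
variable (hι : Function.Injective ι) (hp2 : p ≠ 2) {z : G}
variable (P : Sylow p G) {u : G} (hu : u ∈ P) (hu1 : u ≠ 1)
include hι hp2 hu hu1

theorem mem_conjs_of_dvd {A : Subgroup G} (hA : A ∈ cents ι) (hdvd : p ∣ Nat.card A) :
    A ∈ conjs (Subgroup.centralizer ({u} : Set G)) := by
  obtain ⟨x, hx, rfl⟩ := mem_cents.1 hA
  obtain ⟨⟨y, hy⟩, hyo⟩ := exists_prime_orderOf_dvd_card' p hdvd
  have hyo' : orderOf y = p := by rw [← hyo]; exact Subgroup.orderOf_coe ⟨y, hy⟩
  have hy1 : y ≠ 1 := by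
    intro h; rw [h, orderOf_one] at hyo'; exact hp.out.one_lt.ne hyo'
  have hyc : ¬ Cen ι y := fun h => hy1
    (Borel.eq_one_of_cen p hι hp2 (k := 1) (by rw [pow_one, ← hyo', pow_orderOf_eq_one]) h)
  have hyQ : IsPGroup p (Subgroup.zpowers y) :=
    IsPGroup.of_card (n := 1) (by rw [Nat.card_zpowers, hyo', pow_one])
  obtain ⟨Q, hQ⟩ := hyQ.exists_le_sylow
  obtain ⟨g, hg⟩ := MulAction.exists_smul_eq G P Q
  have hyg : g⁻¹ * y * g ∈ P := by
    have h2 : y ∈ ((g • P : Sylow p G) : Subgroup G) := hg ▸ hQ (Subgroup.mem_zpowers y)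
    rw [Sylow.coe_subgroup_smul, Subgroup.mem_pointwise_smul_iff_inv_smul_mem] at h2
    have h3 : g⁻¹ * y * g ∈ (P : Subgroup G) := by simpa [MulAut.smul_def] using h2
    exact h3
  have hne : g⁻¹ * y * g ≠ 1 := by
    intro h
    exact hy1 (by simpa [mul_assoc] using congrArg (fun w => g * w * g⁻¹) h)
  refine mem_conjs.2 ⟨g, ?_⟩
  rw [← Borel.centralizer_eq_of_mem p hι hp2 hu hu1 hyg hne, conj_smul_centralizer,
    show g * (g⁻¹ * y * g) * g⁻¹ = y by group]
  exact centralizer_eq hι hx hyc (Subgroup.mem_centralizer_singleton_iff.1 hy)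

omit hu hu1 in
/-- A semisimple centraliser has index at most two in its normaliser. -/
theorem card_normalizer {A : Subgroup G} (hA : A ∈ cents ι) (hdvd : ¬ p ∣ Nat.card A) :
    Nat.card (Subgroup.normalizer (A : Set G)) = Nat.card A ∨
      Nat.card (Subgroup.normalizer (A : Set G)) = 2 * Nat.card A := by
  obtain ⟨x, hx, rfl⟩ := mem_cents.1 hA
  set A := Subgroup.centralizer ({x} : Set G) with hAdef
  have hxA : x ∈ A := Subgroup.mem_centralizer_singleton_iff.2 rfl
  have hxp : ¬ Cen ι (x ^ p) := by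
    intro h
    have h1 : (x * x) ^ p = 1 := by rw [(Commute.refl x).mul_pow]; exact h.sq_eq_one hι
    rcases (Nat.dvd_prime hp.out).1 (orderOf_dvd_of_pow_eq_one h1) with h2 | h2
    · exact hx (cen_of_sq p hι hp2 (orderOf_eq_one_iff.1 h2))
    · exact hdvd (h2 ▸ Subgroup.orderOf_dvd_natCard A (mul_mem hxA hxA))
  set N := Subgroup.normalizer (A : Set G)
  have hle : A ≤ N := Subgroup.le_normalizer
  by_cases heq : ∀ g ∈ N, g ∈ A
  · left
    rw [show N = A from le_antisymm heq hle]
  · right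
    push Not at heq
    obtain ⟨g₀, hg₀N, hg₀A⟩ := heq
    have hact : ∀ g ∈ N, g ∉ A → g * x * g⁻¹ = x⁻¹ := by
      intro g hgN hgA
      rcases eq_or_eq_inv p hι hp2 hxp (g := g)
          (Subgroup.mem_centralizer_singleton_iff.1 ((Subgroup.mem_normalizer_iff.1 hgN x).1 hxA))
        with h | h
      · refine absurd (Subgroup.mem_centralizer_singleton_iff.2 ?_) hgA
        rw [← mul_inv_eq_iff_eq_mul, h]
      · exact h
    have hindex : (A.subgroupOf N).index = 2 := by
      refine Subgroup.index_eq_two_iff.2 ⟨⟨g₀, hg₀N⟩, fun b => ?_⟩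
      simp only [Subgroup.mem_subgroupOf, Subgroup.coe_mul]
      by_cases hb : (b : G) ∈ A
      · exact Or.inr ⟨hb, fun h => hg₀A ((A.mul_mem_cancel_left hb).1 h)⟩
      · refine Or.inl ⟨Subgroup.mem_centralizer_singleton_iff.2 ?_, hb⟩
        have h1 : g₀ * x * g₀⁻¹ = x⁻¹ := hact _ hg₀N hg₀A
        have h2 : (b : G) * x * (b : G)⁻¹ = x⁻¹ := hact _ b.2 hb
        rw [← mul_inv_eq_iff_eq_mul]
        calc (b : G) * g₀ * x * ((b : G) * g₀)⁻¹
            = (b : G) * (g₀ * x * g₀⁻¹) * (b : G)⁻¹ := by group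
          _ = ((b : G) * x * (b : G)⁻¹)⁻¹ := by rw [h1]; group
          _ = x := by rw [h2, inv_inv]
    rw [← Subgroup.card_mul_index (A.subgroupOf N), hindex,
      Nat.card_congr (Subgroup.subgroupOfEquivOfLe hle).toEquiv, mul_comm]

theorem card_normalizer_sylow : Nat.card (Subgroup.centralizer ({u} : Set G)) ∣
    Nat.card (Subgroup.normalizer ((P : Subgroup G) : Set G)) := by
  rw [← Borel.normalizer_centralizer p hι hp2 hu hu1]
  exact Subgroup.card_dvd_of_le Subgroup.le_normalizer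

theorem card_conjs_sylow : (conjs (Subgroup.centralizer ({u} : Set G))).card =
    Nat.card (Sylow p G) := by
  have h1 := card_conjs_mul (Subgroup.centralizer ({u} : Set G))
  rw [Borel.normalizer_centralizer p hι hp2 hu hu1] at h1
  refine Nat.eq_of_mul_eq_mul_right Nat.card_pos (h1.trans ?_)
  rw [Sylow.card_eq_index_normalizer P]
  exact (Subgroup.index_mul_card _).symm

/-- The cyclic quotient of the Borel subgroup acts freely on `P`. -/
theorem succ_le {d : ℕ}
    (hd : Nat.card (Subgroup.normalizer ((P : Subgroup G) : Set G)) =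
      Nat.card (Subgroup.centralizer ({u} : Set G)) * d) :
    d + 1 ≤ Nat.card (P : Subgroup G) := by
  set A := Subgroup.centralizer ({u} : Set G)
  set N := Subgroup.normalizer ((P : Subgroup G) : Set G)
  have hle : A ≤ N := by
    rw [show N = Subgroup.normalizer (A : Set G) from
      (Borel.normalizer_centralizer p hι hp2 hu hu1).symm]
    exact Subgroup.le_normalizer
  have hidx : (A.subgroupOf N).index = d := by
    have h := Subgroup.card_mul_index (A.subgroupOf N)
    rw [Nat.card_congr (Subgroup.subgroupOfEquivOfLe hle).toEquiv, hd] at h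
    exact Nat.eq_of_mul_eq_mul_left Nat.card_pos h
  let f : N → (P : Subgroup G) := fun g =>
    ⟨(g : G) * u * (g : G)⁻¹, (Subgroup.mem_normalizer_iff.1 g.2 u).1 hu⟩
  have hwd : ∀ a b : N, a⁻¹ * b ∈ A.subgroupOf N ↔ f a = f b := by
    intro a b
    rw [Subgroup.mem_subgroupOf, Subgroup.mem_centralizer_singleton_iff, Subtype.ext_iff]
    simp only [f, Subgroup.coe_mul, Subgroup.coe_inv]
    constructor <;> intro h
    · calc (a : G) * u * (a : G)⁻¹ = (a : G) * (u * ((a : G)⁻¹ * b)) * (b : G)⁻¹ := by group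
        _ = (a : G) * (((a : G)⁻¹ * b) * u) * (b : G)⁻¹ := by rw [h]
        _ = _ := by group
    · calc (a : G)⁻¹ * b * u = (a : G)⁻¹ * ((b : G) * u * (b : G)⁻¹) * b := by group
        _ = (a : G)⁻¹ * ((a : G) * u * (a : G)⁻¹) * b := by rw [h]
        _ = _ := by group
  let F' : Option (N ⧸ A.subgroupOf N) → (P : Subgroup G) := fun o =>
    o.elim 1 (fun q => f q.out)
  have hne : ∀ g, f g ≠ 1 := fun g h => hu1 (by
    simpa [f, Subtype.ext_iff] using h)
  have hinj : Function.Injective F' := by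
    intro a b h
    rcases a with _ | a <;> rcases b with _ | b
    · rfl
    · exact absurd h.symm (hne _)
    · exact absurd h (hne _)
    · have := QuotientGroup.eq.2 ((hwd a.out b.out).2 h)
      rw [QuotientGroup.out_eq', QuotientGroup.out_eq'] at this
      rw [this]
  have := Nat.card_le_card_of_injective F' hinj
  rwa [Finite.card_option, show Nat.card (N ⧸ A.subgroupOf N) = d from hidx] at this

/-- The torus of the Borel subgroup. -/
theorem exists_torus (hP : ∀ x ∈ P, mat ι x 1 0 = 0 ∧ mat ι x 0 0 = 1) (hz : Cen ι z)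
    (hz1 : z ≠ 1) {d : ℕ}
    (hd : Nat.card (Subgroup.normalizer ((P : Subgroup G) : Set G)) =
      Nat.card (Subgroup.centralizer ({u} : Set G)) * d) (h2 : 2 ≤ d) :
    ∃ A ∈ cents ι, ¬ p ∣ Nat.card A ∧ Nat.card A = 2 * d ∧
      A ∉ conjs (Subgroup.centralizer ({u} : Set G)) := by
  set AP := Subgroup.centralizer ({u} : Set G) with hAP
  set N := Subgroup.normalizer ((P : Subgroup G) : Set G) with hN
  have hne : (P : Subgroup G) ≠ ⊥ := fun h => hu1 (by
    have : u ∈ (P : Subgroup G) := hu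
    rwa [h, Subgroup.mem_bot] at this)
  have hAPN : AP ≤ N := by
    rw [hN, ← Borel.normalizer_centralizer p hι hp2 hu hu1]
    exact Subgroup.le_normalizer
  have hAPcard := Borel.natCard_centralizer p hι hp2 hu hu1 hz hz1
  rw [← hAP] at hAPcard
  obtain ⟨g, hgN, hgAP⟩ : ∃ g ∈ N, g ∉ AP := by
    by_contra hh
    push Not at hh
    rw [le_antisymm (a := N) hh hAPN] at hd
    have hpos : 0 < Nat.card AP := Nat.card_pos
    nlinarith
  have hgc : ¬ Cen ι g := fun h =>
    hgAP (Subgroup.mem_centralizer_singleton_iff.2 (h.commute hι u).symm.eq)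
  set A := Subgroup.centralizer ({g} : Set G) with hA
  have hAN : A ≤ N := Borel.centralizer_le_normalizer p hι hP hne hgN hgc
  have hgA : g ∈ A := Subgroup.mem_centralizer_singleton_iff.2 rfl
  have hint : ∀ y ∈ A, y ∈ AP → Cen ι y := by
    intro y hy hy'
    by_contra hyc
    have e1 := centralizer_eq hι hgc hyc (Subgroup.mem_centralizer_singleton_iff.1 hy)
    have e2 := centralizer_eq hι (Borel.not_cen_of_mem p hι hp2 hu hu1) hyc
      (Subgroup.mem_centralizer_singleton_iff.1 hy')
    exact hgAP (by rw [hAP, ← e2, e1]; exact hgA)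
  have hAP' : ∀ w ∈ P, w ∈ AP := fun w hw => by
    simpa using Borel.mem_centralizer_of p hι hp2 hu (cen_one ι) hw
  have hAP1 : ∀ w ∈ P, w ∈ A → w = 1 := by
    intro w hw hwA
    by_contra hw1
    exact Borel.not_cen_of_mem p hι hp2 hw hw1 (hint w hwA (hAP' w hw))
  have hdvd : ¬ p ∣ Nat.card A := by
    intro hh
    obtain ⟨⟨y, hy⟩, hyo⟩ := exists_prime_orderOf_dvd_card' p hh
    have hyo' : orderOf y = p := by rw [← hyo]; exact Subgroup.orderOf_coe ⟨y, hy⟩
    have hy1 : y ≠ 1 := by intro h; rw [h, orderOf_one] at hyo'; exact hp.out.one_lt.ne hyo'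
    have hyp : y ^ p ^ 1 = 1 := by rw [pow_one, ← hyo', pow_orderOf_eq_one]
    have h10 := (Borel.mem_normalizer_iff p hι hP hne y).1 (hAN hy)
    have h00 : mat ι y 0 0 = 1 := by
      have ht := trace_of_pow (ι := ι) p hyp
      have hdet := det_mat ι y
      rw [Matrix.trace_fin_two] at ht
      rw [Matrix.det_fin_two, h10] at hdet
      exact sub_eq_zero.1 (mul_self_eq_zero.1
        (by linear_combination (mat ι y 0 0) * ht - hdet :
          (mat ι y 0 0 - 1) * (mat ι y 0 0 - 1) = 0))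
    exact hy1 (hAP1 y (Borel.mem_of_upper p hι hP h10 h00) hy)
  refine ⟨A, mem_cents.2 ⟨g, hgc, rfl⟩, hdvd, ?_, fun h => ?_⟩
  · have hq : 0 < Nat.card (P : Subgroup G) := Nat.card_pos
    -- at least
    let f : N → (P : Subgroup G) := fun h =>
      ⟨(h : G) * g * (h : G)⁻¹ * g⁻¹, Borel.commutator_mem p hι hP
        ((Borel.mem_normalizer_iff p hι hP hne g).1 hgN)
        ((Borel.mem_normalizer_iff p hι hP hne _).1 h.2)⟩
    have hwd : ∀ a b : N, f a = f b → a⁻¹ * b ∈ A.subgroupOf N := by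
      intro a b h
      rw [Subgroup.mem_subgroupOf, Subgroup.mem_centralizer_singleton_iff]
      simp only [f, Subtype.ext_iff, mul_left_inj] at h
      simp only [Subgroup.coe_mul, Subgroup.coe_inv]
      calc (a : G)⁻¹ * b * g = (a : G)⁻¹ * ((b : G) * g * (b : G)⁻¹) * b := by group
        _ = (a : G)⁻¹ * ((a : G) * g * (a : G)⁻¹) * b := by rw [h]
        _ = _ := by group
    have hinj : Function.Injective fun q : N ⧸ A.subgroupOf N => f q.out := by
      intro a b h
      have := QuotientGroup.eq.2 (hwd a.out b.out h)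
      rwa [QuotientGroup.out_eq', QuotientGroup.out_eq'] at this
    have h3 : (A.subgroupOf N).index ≤ Nat.card (P : Subgroup G) :=
      Nat.card_le_card_of_injective _ hinj
    have h4 := Subgroup.card_mul_index (A.subgroupOf N)
    rw [Nat.card_congr (Subgroup.subgroupOfEquivOfLe hAN).toEquiv, hd, hAPcard] at h4
    -- at most
    let e : A × (P : Subgroup G) → N := fun a =>
      ⟨(a.1 : G) * a.2, mul_mem (hAN a.1.2) (hAPN (hAP' _ a.2.2))⟩
    have he : Function.Injective e := by
      rintro ⟨⟨a, ha⟩, ⟨w, hw⟩⟩ ⟨⟨a', ha'⟩, ⟨w', hw'⟩⟩ h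
      have h' : a * w = a' * w' := congrArg Subtype.val h
      have e1 : a'⁻¹ * a = w' * w⁻¹ := by
        rw [eq_mul_inv_iff_mul_eq, mul_assoc, h', inv_mul_cancel_left]
      have hw1 : w' * w⁻¹ = 1 := hAP1 _ (mul_mem hw' (inv_mem hw))
        (e1 ▸ mul_mem (inv_mem ha') ha)
      rw [hw1, inv_mul_eq_one] at e1
      rw [mul_inv_eq_one] at hw1
      subst e1 hw1
      rfl
    have h5 := Nat.card_le_card_of_injective e he
    rw [Nat.card_prod, hd, hAPcard] at h5
    apply le_antisymm
    · nlinarith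
    · have h6 := Nat.mul_le_mul_left (Nat.card A) h3
      nlinarith
  · obtain ⟨w, hw⟩ := mem_conjs.1 h
    refine hdvd ?_
    rw [← hw, natCard_conj, hAPcard]
    refine Dvd.dvd.mul_left ?_ 2
    obtain ⟨k, hk⟩ := IsPGroup.iff_card.1 P.isPGroup'
    rcases k with _ | k
    · exfalso
      exact hne (Subgroup.card_eq_one.1 (by rw [hk, pow_zero]))
    · exact hk ▸ dvd_pow_self p k.succ_ne_zero

end Cfsg.Agent.Techniques.SL2.Orbits
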